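import Cfsg.Agent.ONMult41.Lab

set_option autoImplicit false
set_option maxRecDepth 100000

namespace Cfsg.Agent.ONMult41

theorem lab_12 : CosetEnum.allRange checkLab 6144 512 = true := by decide +kernel

theorem lab_13 : CosetEnum.allRange checkLab 6656 512 = true := by decide +kernel

theorem lab_14 : CosetEnum.allRange checkLab 7168 512 = true := by decide +kernel

theorem lab_15 : CosetEnum.allRange checkLab 7680 512 = true := by decide +kernel

theorem lab_16 : CosetEnum.allRange checkLab 8192 512 = true := by decide +kernel

theorem lab_17 : CosetEnum.allRange checkLab 8704 512 = true := by decide +kernel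

theorem lab_18 : CosetEnum.allRange checkLab 9216 512 = true := by decide +kernel

theorem lab_19 : CosetEnum.allRange checkLab 9728 512 = true := by decide +kernel

theorem lab_20 : CosetEnum.allRange checkLab 10240 512 = true := by decide +kernel

theorem lab_21 : CosetEnum.allRange checkLab 10752 512 = true := by decide +kernel

theorem lab_22 : CosetEnum.allRange checkLab 11264 512 = true := by decide +kernel

theorem lab_23 : CosetEnum.allRange checkLab 11776 512 = true := by decide +kernel

end Cfsg.Agent.ONMult41
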