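import Cfsg.Agent.ONMult41.Lab

set_option autoImplicit false
set_option maxRecDepth 100000

namespace Cfsg.Agent.ONMult41

theorem lab_120 : CosetEnum.allRange checkLab 61440 512 = true := by decide +kernel

theorem lab_121 : CosetEnum.allRange checkLab 61952 512 = true := by decide +kernel

theorem lab_122 : CosetEnum.allRange checkLab 62464 512 = true := by decide +kernel

theorem lab_123 : CosetEnum.allRange checkLab 62976 512 = true := by decide +kernel

theorem lab_124 : CosetEnum.allRange checkLab 63488 512 = true := by decide +kernel

theorem lab_125 : CosetEnum.allRange checkLab 64000 512 = true := by decide +kernel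

theorem lab_126 : CosetEnum.allRange checkLab 64512 512 = true := by decide +kernel

theorem lab_127 : CosetEnum.allRange checkLab 65024 512 = true := by decide +kernel

theorem lab_128 : CosetEnum.allRange checkLab 65536 512 = true := by decide +kernel

theorem lab_129 : CosetEnum.allRange checkLab 66048 512 = true := by decide +kernel

theorem lab_130 : CosetEnum.allRange checkLab 66560 512 = true := by decide +kernel

theorem lab_131 : CosetEnum.allRange checkLab 67072 512 = true := by decide +kernel

end Cfsg.Agent.ONMult41
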