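import Cfsg.Agent.ONMult41.Lab

set_option autoImplicit false
set_option maxRecDepth 100000

namespace Cfsg.Agent.ONMult41

theorem lab_132 : CosetEnum.allRange checkLab 67584 512 = true := by decide +kernel

theorem lab_133 : CosetEnum.allRange checkLab 68096 512 = true := by decide +kernel

theorem lab_134 : CosetEnum.allRange checkLab 68608 512 = true := by decide +kernel

theorem lab_135 : CosetEnum.allRange checkLab 69120 512 = true := by decide +kernel

theorem lab_136 : CosetEnum.allRange checkLab 69632 512 = true := by decide +kernel

theorem lab_137 : CosetEnum.allRange checkLab 70144 512 = true := by decide +kernel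

theorem lab_138 : CosetEnum.allRange checkLab 70656 512 = true := by decide +kernel

theorem lab_139 : CosetEnum.allRange checkLab 71168 512 = true := by decide +kernel

theorem lab_140 : CosetEnum.allRange checkLab 71680 512 = true := by decide +kernel

theorem lab_141 : CosetEnum.allRange checkLab 72192 512 = true := by decide +kernel

theorem lab_142 : CosetEnum.allRange checkLab 72704 512 = true := by decide +kernel

theorem lab_143 : CosetEnum.allRange checkLab 73216 512 = true := by decide +kernel

end Cfsg.Agent.ONMult41
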