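import Cfsg.Agent.ONMult41.Lab

set_option autoImplicit false
set_option maxRecDepth 100000

namespace Cfsg.Agent.ONMult41

theorem lab_144 : CosetEnum.allRange checkLab 73728 512 = true := by decide +kernel

theorem lab_145 : CosetEnum.allRange checkLab 74240 512 = true := by decide +kernel

theorem lab_146 : CosetEnum.allRange checkLab 74752 512 = true := by decide +kernel

theorem lab_147 : CosetEnum.allRange checkLab 75264 512 = true := by decide +kernel

theorem lab_148 : CosetEnum.allRange checkLab 75776 512 = true := by decide +kernel

theorem lab_149 : CosetEnum.allRange checkLab 76288 512 = true := by decide +kernel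

theorem lab_150 : CosetEnum.allRange checkLab 76800 512 = true := by decide +kernel

theorem lab_151 : CosetEnum.allRange checkLab 77312 512 = true := by decide +kernel

theorem lab_152 : CosetEnum.allRange checkLab 77824 512 = true := by decide +kernel

theorem lab_153 : CosetEnum.allRange checkLab 78336 512 = true := by decide +kernel

theorem lab_154 : CosetEnum.allRange checkLab 78848 512 = true := by decide +kernel

theorem lab_155 : CosetEnum.allRange checkLab 79360 512 = true := by decide +kernel

end Cfsg.Agent.ONMult41
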