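import Cfsg.Agent.ONMult41.Lab

set_option autoImplicit false
set_option maxRecDepth 100000

namespace Cfsg.Agent.ONMult41

theorem lab_156 : CosetEnum.allRange checkLab 79872 512 = true := by decide +kernel

theorem lab_157 : CosetEnum.allRange checkLab 80384 512 = true := by decide +kernel

theorem lab_158 : CosetEnum.allRange checkLab 80896 512 = true := by decide +kernel

theorem lab_159 : CosetEnum.allRange checkLab 81408 512 = true := by decide +kernel

theorem lab_160 : CosetEnum.allRange checkLab 81920 512 = true := by decide +kernel

theorem lab_161 : CosetEnum.allRange checkLab 82432 512 = true := by decide +kernel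

theorem lab_162 : CosetEnum.allRange checkLab 82944 512 = true := by decide +kernel

theorem lab_163 : CosetEnum.allRange checkLab 83456 512 = true := by decide +kernel

theorem lab_164 : CosetEnum.allRange checkLab 83968 512 = true := by decide +kernel

theorem lab_165 : CosetEnum.allRange checkLab 84480 512 = true := by decide +kernel

theorem lab_166 : CosetEnum.allRange checkLab 84992 512 = true := by decide +kernel

theorem lab_167 : CosetEnum.allRange checkLab 85504 512 = true := by decide +kernel

end Cfsg.Agent.ONMult41
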