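import Cfsg.Agent.ONMult41.Lab

set_option autoImplicit false
set_option maxRecDepth 100000

namespace Cfsg.Agent.ONMult41

theorem lab_168 : CosetEnum.allRange checkLab 86016 512 = true := by decide +kernel

theorem lab_169 : CosetEnum.allRange checkLab 86528 512 = true := by decide +kernel

theorem lab_170 : CosetEnum.allRange checkLab 87040 512 = true := by decide +kernel

theorem lab_171 : CosetEnum.allRange checkLab 87552 512 = true := by decide +kernel

theorem lab_172 : CosetEnum.allRange checkLab 88064 512 = true := by decide +kernel

theorem lab_173 : CosetEnum.allRange checkLab 88576 512 = true := by decide +kernel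

theorem lab_174 : CosetEnum.allRange checkLab 89088 512 = true := by decide +kernel

theorem lab_175 : CosetEnum.allRange checkLab 89600 512 = true := by decide +kernel

theorem lab_176 : CosetEnum.allRange checkLab 90112 512 = true := by decide +kernel

theorem lab_177 : CosetEnum.allRange checkLab 90624 512 = true := by decide +kernel

theorem lab_178 : CosetEnum.allRange checkLab 91136 512 = true := by decide +kernel

theorem lab_179 : CosetEnum.allRange checkLab 91648 512 = true := by decide +kernel

end Cfsg.Agent.ONMult41
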