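import Cfsg.Agent.ONMult41.Lab

set_option autoImplicit false
set_option maxRecDepth 100000

namespace Cfsg.Agent.ONMult41

theorem lab_180 : CosetEnum.allRange checkLab 92160 512 = true := by decide +kernel

theorem lab_181 : CosetEnum.allRange checkLab 92672 512 = true := by decide +kernel

theorem lab_182 : CosetEnum.allRange checkLab 93184 512 = true := by decide +kernel

theorem lab_183 : CosetEnum.allRange checkLab 93696 512 = true := by decide +kernel

theorem lab_184 : CosetEnum.allRange checkLab 94208 512 = true := by decide +kernel

theorem lab_185 : CosetEnum.allRange checkLab 94720 512 = true := by decide +kernel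

theorem lab_186 : CosetEnum.allRange checkLab 95232 512 = true := by decide +kernel

theorem lab_187 : CosetEnum.allRange checkLab 95744 512 = true := by decide +kernel

theorem lab_188 : CosetEnum.allRange checkLab 96256 512 = true := by decide +kernel

theorem lab_189 : CosetEnum.allRange checkLab 96768 512 = true := by decide +kernel

theorem lab_190 : CosetEnum.allRange checkLab 97280 512 = true := by decide +kernel

theorem lab_191 : CosetEnum.allRange checkLab 97792 512 = true := by decide +kernel

end Cfsg.Agent.ONMult41
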