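import Cfsg.Agent.ONMult41.Lab

set_option autoImplicit false
set_option maxRecDepth 100000

namespace Cfsg.Agent.ONMult41

theorem lab_192 : CosetEnum.allRange checkLab 98304 512 = true := by decide +kernel

theorem lab_193 : CosetEnum.allRange checkLab 98816 512 = true := by decide +kernel

theorem lab_194 : CosetEnum.allRange checkLab 99328 512 = true := by decide +kernel

theorem lab_195 : CosetEnum.allRange checkLab 99840 512 = true := by decide +kernel

theorem lab_196 : CosetEnum.allRange checkLab 100352 512 = true := by decide +kernel

theorem lab_197 : CosetEnum.allRange checkLab 100864 512 = true := by decide +kernel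

theorem lab_198 : CosetEnum.allRange checkLab 101376 512 = true := by decide +kernel

theorem lab_199 : CosetEnum.allRange checkLab 101888 512 = true := by decide +kernel

theorem lab_200 : CosetEnum.allRange checkLab 102400 512 = true := by decide +kernel

theorem lab_201 : CosetEnum.allRange checkLab 102912 512 = true := by decide +kernel

theorem lab_202 : CosetEnum.allRange checkLab 103424 512 = true := by decide +kernel

theorem lab_203 : CosetEnum.allRange checkLab 103936 512 = true := by decide +kernel

end Cfsg.Agent.ONMult41
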