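import Cfsg.Agent.ONMult41.Lab

set_option autoImplicit false
set_option maxRecDepth 100000

namespace Cfsg.Agent.ONMult41

theorem lab_204 : CosetEnum.allRange checkLab 104448 512 = true := by decide +kernel

theorem lab_205 : CosetEnum.allRange checkLab 104960 512 = true := by decide +kernel

theorem lab_206 : CosetEnum.allRange checkLab 105472 512 = true := by decide +kernel

theorem lab_207 : CosetEnum.allRange checkLab 105984 512 = true := by decide +kernel

theorem lab_208 : CosetEnum.allRange checkLab 106496 512 = true := by decide +kernel

theorem lab_209 : CosetEnum.allRange checkLab 107008 512 = true := by decide +kernel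

theorem lab_210 : CosetEnum.allRange checkLab 107520 512 = true := by decide +kernel

theorem lab_211 : CosetEnum.allRange checkLab 108032 512 = true := by decide +kernel

theorem lab_212 : CosetEnum.allRange checkLab 108544 512 = true := by decide +kernel

theorem lab_213 : CosetEnum.allRange checkLab 109056 512 = true := by decide +kernel

theorem lab_214 : CosetEnum.allRange checkLab 109568 512 = true := by decide +kernel

theorem lab_215 : CosetEnum.allRange checkLab 110080 512 = true := by decide +kernel

end Cfsg.Agent.ONMult41
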