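import Cfsg.Agent.ONMult41.Lab

set_option autoImplicit false
set_option maxRecDepth 100000

namespace Cfsg.Agent.ONMult41

theorem lab_216 : CosetEnum.allRange checkLab 110592 512 = true := by decide +kernel

theorem lab_217 : CosetEnum.allRange checkLab 111104 512 = true := by decide +kernel

theorem lab_218 : CosetEnum.allRange checkLab 111616 512 = true := by decide +kernel

theorem lab_219 : CosetEnum.allRange checkLab 112128 512 = true := by decide +kernel

theorem lab_220 : CosetEnum.allRange checkLab 112640 512 = true := by decide +kernel

theorem lab_221 : CosetEnum.allRange checkLab 113152 512 = true := by decide +kernel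

theorem lab_222 : CosetEnum.allRange checkLab 113664 512 = true := by decide +kernel

theorem lab_223 : CosetEnum.allRange checkLab 114176 512 = true := by decide +kernel

theorem lab_224 : CosetEnum.allRange checkLab 114688 512 = true := by decide +kernel

theorem lab_225 : CosetEnum.allRange checkLab 115200 512 = true := by decide +kernel

theorem lab_226 : CosetEnum.allRange checkLab 115712 512 = true := by decide +kernel

theorem lab_227 : CosetEnum.allRange checkLab 116224 512 = true := by decide +kernel

end Cfsg.Agent.ONMult41
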