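import Cfsg.Agent.ONMult41.Lab

set_option autoImplicit false
set_option maxRecDepth 100000

namespace Cfsg.Agent.ONMult41

theorem lab_24 : CosetEnum.allRange checkLab 12288 512 = true := by decide +kernel

theorem lab_25 : CosetEnum.allRange checkLab 12800 512 = true := by decide +kernel

theorem lab_26 : CosetEnum.allRange checkLab 13312 512 = true := by decide +kernel

theorem lab_27 : CosetEnum.allRange checkLab 13824 512 = true := by decide +kernel

theorem lab_28 : CosetEnum.allRange checkLab 14336 512 = true := by decide +kernel

theorem lab_29 : CosetEnum.allRange checkLab 14848 512 = true := by decide +kernel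

theorem lab_30 : CosetEnum.allRange checkLab 15360 512 = true := by decide +kernel

theorem lab_31 : CosetEnum.allRange checkLab 15872 512 = true := by decide +kernel

theorem lab_32 : CosetEnum.allRange checkLab 16384 512 = true := by decide +kernel

theorem lab_33 : CosetEnum.allRange checkLab 16896 512 = true := by decide +kernel

theorem lab_34 : CosetEnum.allRange checkLab 17408 512 = true := by decide +kernel

theorem lab_35 : CosetEnum.allRange checkLab 17920 512 = true := by decide +kernel

end Cfsg.Agent.ONMult41
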