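import Cfsg.Agent.ONMult41.Lab

set_option autoImplicit false
set_option maxRecDepth 100000

namespace Cfsg.Agent.ONMult41

theorem lab_36 : CosetEnum.allRange checkLab 18432 512 = true := by decide +kernel

theorem lab_37 : CosetEnum.allRange checkLab 18944 512 = true := by decide +kernel

theorem lab_38 : CosetEnum.allRange checkLab 19456 512 = true := by decide +kernel

theorem lab_39 : CosetEnum.allRange checkLab 19968 512 = true := by decide +kernel

theorem lab_40 : CosetEnum.allRange checkLab 20480 512 = true := by decide +kernel

theorem lab_41 : CosetEnum.allRange checkLab 20992 512 = true := by decide +kernel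

theorem lab_42 : CosetEnum.allRange checkLab 21504 512 = true := by decide +kernel

theorem lab_43 : CosetEnum.allRange checkLab 22016 512 = true := by decide +kernel

theorem lab_44 : CosetEnum.allRange checkLab 22528 512 = true := by decide +kernel

theorem lab_45 : CosetEnum.allRange checkLab 23040 512 = true := by decide +kernel

theorem lab_46 : CosetEnum.allRange checkLab 23552 512 = true := by decide +kernel

theorem lab_47 : CosetEnum.allRange checkLab 24064 512 = true := by decide +kernel

end Cfsg.Agent.ONMult41
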