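import Cfsg.Agent.ONMult41.Lab

set_option autoImplicit false
set_option maxRecDepth 100000

namespace Cfsg.Agent.ONMult41

theorem lab_48 : CosetEnum.allRange checkLab 24576 512 = true := by decide +kernel

theorem lab_49 : CosetEnum.allRange checkLab 25088 512 = true := by decide +kernel

theorem lab_50 : CosetEnum.allRange checkLab 25600 512 = true := by decide +kernel

theorem lab_51 : CosetEnum.allRange checkLab 26112 512 = true := by decide +kernel

theorem lab_52 : CosetEnum.allRange checkLab 26624 512 = true := by decide +kernel

theorem lab_53 : CosetEnum.allRange checkLab 27136 512 = true := by decide +kernel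

theorem lab_54 : CosetEnum.allRange checkLab 27648 512 = true := by decide +kernel

theorem lab_55 : CosetEnum.allRange checkLab 28160 512 = true := by decide +kernel

theorem lab_56 : CosetEnum.allRange checkLab 28672 512 = true := by decide +kernel

theorem lab_57 : CosetEnum.allRange checkLab 29184 512 = true := by decide +kernel

theorem lab_58 : CosetEnum.allRange checkLab 29696 512 = true := by decide +kernel

theorem lab_59 : CosetEnum.allRange checkLab 30208 512 = true := by decide +kernel

end Cfsg.Agent.ONMult41
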