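import Cfsg.Agent.ONMult41.Lab

set_option autoImplicit false
set_option maxRecDepth 100000

namespace Cfsg.Agent.ONMult41

theorem lab_60 : CosetEnum.allRange checkLab 30720 512 = true := by decide +kernel

theorem lab_61 : CosetEnum.allRange checkLab 31232 512 = true := by decide +kernel

theorem lab_62 : CosetEnum.allRange checkLab 31744 512 = true := by decide +kernel

theorem lab_63 : CosetEnum.allRange checkLab 32256 512 = true := by decide +kernel

theorem lab_64 : CosetEnum.allRange checkLab 32768 512 = true := by decide +kernel

theorem lab_65 : CosetEnum.allRange checkLab 33280 512 = true := by decide +kernel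

theorem lab_66 : CosetEnum.allRange checkLab 33792 512 = true := by decide +kernel

theorem lab_67 : CosetEnum.allRange checkLab 34304 512 = true := by decide +kernel

theorem lab_68 : CosetEnum.allRange checkLab 34816 512 = true := by decide +kernel

theorem lab_69 : CosetEnum.allRange checkLab 35328 512 = true := by decide +kernel

theorem lab_70 : CosetEnum.allRange checkLab 35840 512 = true := by decide +kernel

theorem lab_71 : CosetEnum.allRange checkLab 36352 512 = true := by decide +kernel

end Cfsg.Agent.ONMult41
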