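import Cfsg.Agent.ONMult41.Lab

set_option autoImplicit false
set_option maxRecDepth 100000

namespace Cfsg.Agent.ONMult41

theorem lab_72 : CosetEnum.allRange checkLab 36864 512 = true := by decide +kernel

theorem lab_73 : CosetEnum.allRange checkLab 37376 512 = true := by decide +kernel

theorem lab_74 : CosetEnum.allRange checkLab 37888 512 = true := by decide +kernel

theorem lab_75 : CosetEnum.allRange checkLab 38400 512 = true := by decide +kernel

theorem lab_76 : CosetEnum.allRange checkLab 38912 512 = true := by decide +kernel

theorem lab_77 : CosetEnum.allRange checkLab 39424 512 = true := by decide +kernel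

theorem lab_78 : CosetEnum.allRange checkLab 39936 512 = true := by decide +kernel

theorem lab_79 : CosetEnum.allRange checkLab 40448 512 = true := by decide +kernel

theorem lab_80 : CosetEnum.allRange checkLab 40960 512 = true := by decide +kernel

theorem lab_81 : CosetEnum.allRange checkLab 41472 512 = true := by decide +kernel

theorem lab_82 : CosetEnum.allRange checkLab 41984 512 = true := by decide +kernel

theorem lab_83 : CosetEnum.allRange checkLab 42496 512 = true := by decide +kernel

end Cfsg.Agent.ONMult41
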