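import Cfsg.Agent.ONMult41.Lab

set_option autoImplicit false
set_option maxRecDepth 100000

namespace Cfsg.Agent.ONMult41

theorem lab_84 : CosetEnum.allRange checkLab 43008 512 = true := by decide +kernel

theorem lab_85 : CosetEnum.allRange checkLab 43520 512 = true := by decide +kernel

theorem lab_86 : CosetEnum.allRange checkLab 44032 512 = true := by decide +kernel

theorem lab_87 : CosetEnum.allRange checkLab 44544 512 = true := by decide +kernel

theorem lab_88 : CosetEnum.allRange checkLab 45056 512 = true := by decide +kernel

theorem lab_89 : CosetEnum.allRange checkLab 45568 512 = true := by decide +kernel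

theorem lab_90 : CosetEnum.allRange checkLab 46080 512 = true := by decide +kernel

theorem lab_91 : CosetEnum.allRange checkLab 46592 512 = true := by decide +kernel

theorem lab_92 : CosetEnum.allRange checkLab 47104 512 = true := by decide +kernel

theorem lab_93 : CosetEnum.allRange checkLab 47616 512 = true := by decide +kernel

theorem lab_94 : CosetEnum.allRange checkLab 48128 512 = true := by decide +kernel

theorem lab_95 : CosetEnum.allRange checkLab 48640 512 = true := by decide +kernel

end Cfsg.Agent.ONMult41
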