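import Cfsg.Agent.ONMult41.Lab

set_option autoImplicit false
set_option maxRecDepth 100000

namespace Cfsg.Agent.ONMult41

theorem lab_96 : CosetEnum.allRange checkLab 49152 512 = true := by decide +kernel

theorem lab_97 : CosetEnum.allRange checkLab 49664 512 = true := by decide +kernel

theorem lab_98 : CosetEnum.allRange checkLab 50176 512 = true := by decide +kernel

theorem lab_99 : CosetEnum.allRange checkLab 50688 512 = true := by decide +kernel

theorem lab_100 : CosetEnum.allRange checkLab 51200 512 = true := by decide +kernel

theorem lab_101 : CosetEnum.allRange checkLab 51712 512 = true := by decide +kernel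

theorem lab_102 : CosetEnum.allRange checkLab 52224 512 = true := by decide +kernel

theorem lab_103 : CosetEnum.allRange checkLab 52736 512 = true := by decide +kernel

theorem lab_104 : CosetEnum.allRange checkLab 53248 512 = true := by decide +kernel

theorem lab_105 : CosetEnum.allRange checkLab 53760 512 = true := by decide +kernel

theorem lab_106 : CosetEnum.allRange checkLab 54272 512 = true := by decide +kernel

theorem lab_107 : CosetEnum.allRange checkLab 54784 512 = true := by decide +kernel

end Cfsg.Agent.ONMult41
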