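import Cfsg.Agent.ONMult41.Lab

set_option autoImplicit false
set_option maxRecDepth 100000

namespace Cfsg.Agent.ONMult41

theorem lab_108 : CosetEnum.allRange checkLab 55296 512 = true := by decide +kernel

theorem lab_109 : CosetEnum.allRange checkLab 55808 512 = true := by decide +kernel

theorem lab_110 : CosetEnum.allRange checkLab 56320 512 = true := by decide +kernel

theorem lab_111 : CosetEnum.allRange checkLab 56832 512 = true := by decide +kernel

theorem lab_112 : CosetEnum.allRange checkLab 57344 512 = true := by decide +kernel

theorem lab_113 : CosetEnum.allRange checkLab 57856 512 = true := by decide +kernel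

theorem lab_114 : CosetEnum.allRange checkLab 58368 512 = true := by decide +kernel

theorem lab_115 : CosetEnum.allRange checkLab 58880 512 = true := by decide +kernel

theorem lab_116 : CosetEnum.allRange checkLab 59392 512 = true := by decide +kernel

theorem lab_117 : CosetEnum.allRange checkLab 59904 512 = true := by decide +kernel

theorem lab_118 : CosetEnum.allRange checkLab 60416 512 = true := by decide +kernel

theorem lab_119 : CosetEnum.allRange checkLab 60928 512 = true := by decide +kernel

end Cfsg.Agent.ONMult41
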