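import Cfsg.Agent.ONMult41.CheckLab0
import Cfsg.Agent.ONMult41.CheckLab1
import Cfsg.Agent.ONMult41.CheckLab2
import Cfsg.Agent.ONMult41.CheckLab3
import Cfsg.Agent.ONMult41.CheckLab4
import Cfsg.Agent.ONMult41.CheckLab5
import Cfsg.Agent.ONMult41.CheckLab6
import Cfsg.Agent.ONMult41.CheckLab7
import Cfsg.Agent.ONMult41.CheckLab8
import Cfsg.Agent.ONMult41.CheckLab9
import Cfsg.Agent.ONMult41.CheckLab10
import Cfsg.Agent.ONMult41.CheckLab11
import Cfsg.Agent.ONMult41.CheckLab12
import Cfsg.Agent.ONMult41.CheckLab13
import Cfsg.Agent.ONMult41.CheckLab14
import Cfsg.Agent.ONMult41.CheckLab15
import Cfsg.Agent.ONMult41.CheckLab16
import Cfsg.Agent.ONMult41.CheckLab17
import Cfsg.Agent.ONMult41.CheckLab18
import Cfsg.Agent.ONMult41.CheckLab19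

set_option autoImplicit false

namespace Cfsg.Agent.ONMult41

theorem checkLab_ok : ∀ i < 122760, checkLab i = true := by
  intro i hi
  rcases Nat.lt_or_ge i 61440 with h | h
  ·
    rcases Nat.lt_or_ge i 30720 with h | h
    ·
      rcases Nat.lt_or_ge i 15360 with h | h
      ·
        rcases Nat.lt_or_ge i 7680 with h | h
        ·
          rcases Nat.lt_or_ge i 3584 with h | h
          ·
            rcases Nat.lt_or_ge i 1536 with h | h
            ·
              rcases Nat.lt_or_ge i 512 with h | h
              ·
                exact CosetEnum.allRange_spec lab_0 i (by omega) (by omega)
              ·
                rcases Nat.lt_or_ge i 1024 with h | h
                ·
                  exact CosetEnum.allRange_spec lab_1 i (by omega) (by omega)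
                ·
                  exact CosetEnum.allRange_spec lab_2 i (by omega) (by omega)
            ·
              rcases Nat.lt_or_ge i 2560 with h | h
              ·
                rcases Nat.lt_or_ge i 2048 with h | h
                ·
                  exact CosetEnum.allRange_spec lab_3 i (by omega) (by omega)
                ·
                  exact CosetEnum.allRange_spec lab_4 i (by omega) (by omega)
              ·
                rcases Nat.lt_or_ge i 3072 with h | h
                ·
                  exact CosetEnum.allRange_spec lab_5 i (by omega) (by omega)
                ·
                  exact CosetEnum.allRange_spec lab_6 i (by omega) (by omega)
          ·
            rcases Nat.lt_or_ge i 5632 with h | h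
            ·
              rcases Nat.lt_or_ge i 4608 with h | h
              ·
                rcases Nat.lt_or_ge i 4096 with h | h
                ·
                  exact CosetEnum.allRange_spec lab_7 i (by omega) (by omega)
                ·
                  exact CosetEnum.allRange_spec lab_8 i (by omega) (by omega)
              ·
                rcases Nat.lt_or_ge i 5120 with h | h
                ·
                  exact CosetEnum.allRange_spec lab_9 i (by omega) (by omega)
                ·
                  exact CosetEnum.allRange_spec lab_10 i (by omega) (by omega)
            ·
              rcases Nat.lt_or_ge i 6656 with h | h
              ·
                rcases Nat.lt_or_ge i 6144 with h | h
                ·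
                  exact CosetEnum.allRange_spec lab_11 i (by omega) (by omega)
                ·
                  exact CosetEnum.allRange_spec lab_12 i (by omega) (by omega)
              ·
                rcases Nat.lt_or_ge i 7168 with h | h
                ·
                  exact CosetEnum.allRange_spec lab_13 i (by omega) (by omega)
                ·
                  exact CosetEnum.allRange_spec lab_14 i (by omega) (by omega)
        ·
          rcases Nat.lt_or_ge i 11264 with h | h
          ·
            rcases Nat.lt_or_ge i 9216 with h | h
            ·
              rcases Nat.lt_or_ge i 8192 with h | h
              ·
                exact CosetEnum.allRange_spec lab_15 i (by omega) (by omega)
              ·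
                rcases Nat.lt_or_ge i 8704 with h | h
                ·
                  exact CosetEnum.allRange_spec lab_16 i (by omega) (by omega)
                ·
                  exact CosetEnum.allRange_spec lab_17 i (by omega) (by omega)
            ·
              rcases Nat.lt_or_ge i 10240 with h | h
              ·
                rcases Nat.lt_or_ge i 9728 with h | h
                ·
                  exact CosetEnum.allRange_spec lab_18 i (by omega) (by omega)
                ·
                  exact CosetEnum.allRange_spec lab_19 i (by omega) (by omega)
              ·
                rcases Nat.lt_or_ge i 10752 with h | h
                ·
                  exact CosetEnum.allRange_spec lab_20 i (by omega) (by omega)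
                ·
                  exact CosetEnum.allRange_spec lab_21 i (by omega) (by omega)
          ·
            rcases Nat.lt_or_ge i 13312 with h | h
            ·
              rcases Nat.lt_or_ge i 12288 with h | h
              ·
                rcases Nat.lt_or_ge i 11776 with h | h
                ·
                  exact CosetEnum.allRange_spec lab_22 i (by omega) (by omega)
                ·
                  exact CosetEnum.allRange_spec lab_23 i (by omega) (by omega)
              ·
                rcases Nat.lt_or_ge i 12800 with h | h
                ·
                  exact CosetEnum.allRange_spec lab_24 i (by omega) (by omega)
                ·
                  exact CosetEnum.allRange_spec lab_25 i (by omega) (by omega)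
            ·
              rcases Nat.lt_or_ge i 14336 with h | h
              ·
                rcases Nat.lt_or_ge i 13824 with h | h
                ·
                  exact CosetEnum.allRange_spec lab_26 i (by omega) (by omega)
                ·
                  exact CosetEnum.allRange_spec lab_27 i (by omega) (by omega)
              ·
                rcases Nat.lt_or_ge i 14848 with h | h
                ·
                  exact CosetEnum.allRange_spec lab_28 i (by omega) (by omega)
                ·
                  exact CosetEnum.allRange_spec lab_29 i (by omega) (by omega)
      ·
        rcases Nat.lt_or_ge i 23040 with h | h
        ·
          rcases Nat.lt_or_ge i 18944 with h | h
          ·
            rcases Nat.lt_or_ge i 16896 with h | h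
            ·
              rcases Nat.lt_or_ge i 15872 with h | h
              ·
                exact CosetEnum.allRange_spec lab_30 i (by omega) (by omega)
              ·
                rcases Nat.lt_or_ge i 16384 with h | h
                ·
                  exact CosetEnum.allRange_spec lab_31 i (by omega) (by omega)
                ·
                  exact CosetEnum.allRange_spec lab_32 i (by omega) (by omega)
            ·
              rcases Nat.lt_or_ge i 17920 with h | h
              ·
                rcases Nat.lt_or_ge i 17408 with h | h
                ·
                  exact CosetEnum.allRange_spec lab_33 i (by omega) (by omega)
                ·
                  exact CosetEnum.allRange_spec lab_34 i (by omega) (by omega)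
              ·
                rcases Nat.lt_or_ge i 18432 with h | h
                ·
                  exact CosetEnum.allRange_spec lab_35 i (by omega) (by omega)
                ·
                  exact CosetEnum.allRange_spec lab_36 i (by omega) (by omega)
          ·
            rcases Nat.lt_or_ge i 20992 with h | h
            ·
              rcases Nat.lt_or_ge i 19968 with h | h
              ·
                rcases Nat.lt_or_ge i 19456 with h | h
                ·
                  exact CosetEnum.allRange_spec lab_37 i (by omega) (by omega)
                ·
                  exact CosetEnum.allRange_spec lab_38 i (by omega) (by omega)
              ·
                rcases Nat.lt_or_ge i 20480 with h | h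
                ·
                  exact CosetEnum.allRange_spec lab_39 i (by omega) (by omega)
                ·
                  exact CosetEnum.allRange_spec lab_40 i (by omega) (by omega)
            ·
              rcases Nat.lt_or_ge i 22016 with h | h
              ·
                rcases Nat.lt_or_ge i 21504 with h | h
                ·
                  exact CosetEnum.allRange_spec lab_41 i (by omega) (by omega)
                ·
                  exact CosetEnum.allRange_spec lab_42 i (by omega) (by omega)
              ·
                rcases Nat.lt_or_ge i 22528 with h | h
                ·
                  exact CosetEnum.allRange_spec lab_43 i (by omega) (by omega)
                ·
                  exact CosetEnum.allRange_spec lab_44 i (by omega) (by omega)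
        ·
          rcases Nat.lt_or_ge i 26624 with h | h
          ·
            rcases Nat.lt_or_ge i 24576 with h | h
            ·
              rcases Nat.lt_or_ge i 23552 with h | h
              ·
                exact CosetEnum.allRange_spec lab_45 i (by omega) (by omega)
              ·
                rcases Nat.lt_or_ge i 24064 with h | h
                ·
                  exact CosetEnum.allRange_spec lab_46 i (by omega) (by omega)
                ·
                  exact CosetEnum.allRange_spec lab_47 i (by omega) (by omega)
            ·
              rcases Nat.lt_or_ge i 25600 with h | h
              ·
                rcases Nat.lt_or_ge i 25088 with h | h
                ·
                  exact CosetEnum.allRange_spec lab_48 i (by omega) (by omega)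
                ·
                  exact CosetEnum.allRange_spec lab_49 i (by omega) (by omega)
              ·
                rcases Nat.lt_or_ge i 26112 with h | h
                ·
                  exact CosetEnum.allRange_spec lab_50 i (by omega) (by omega)
                ·
                  exact CosetEnum.allRange_spec lab_51 i (by omega) (by omega)
          ·
            rcases Nat.lt_or_ge i 28672 with h | h
            ·
              rcases Nat.lt_or_ge i 27648 with h | h
              ·
                rcases Nat.lt_or_ge i 27136 with h | h
                ·
                  exact CosetEnum.allRange_spec lab_52 i (by omega) (by omega)
                ·
                  exact CosetEnum.allRange_spec lab_53 i (by omega) (by omega)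
              ·
                rcases Nat.lt_or_ge i 28160 with h | h
                ·
                  exact CosetEnum.allRange_spec lab_54 i (by omega) (by omega)
                ·
                  exact CosetEnum.allRange_spec lab_55 i (by omega) (by omega)
            ·
              rcases Nat.lt_or_ge i 29696 with h | h
              ·
                rcases Nat.lt_or_ge i 29184 with h | h
                ·
                  exact CosetEnum.allRange_spec lab_56 i (by omega) (by omega)
                ·
                  exact CosetEnum.allRange_spec lab_57 i (by omega) (by omega)
              ·
                rcases Nat.lt_or_ge i 30208 with h | h
                ·
                  exact CosetEnum.allRange_spec lab_58 i (by omega) (by omega)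
                ·
                  exact CosetEnum.allRange_spec lab_59 i (by omega) (by omega)
    ·
      rcases Nat.lt_or_ge i 46080 with h | h
      ·
        rcases Nat.lt_or_ge i 38400 with h | h
        ·
          rcases Nat.lt_or_ge i 34304 with h | h
          ·
            rcases Nat.lt_or_ge i 32256 with h | h
            ·
              rcases Nat.lt_or_ge i 31232 with h | h
              ·
                exact CosetEnum.allRange_spec lab_60 i (by omega) (by omega)
              ·
                rcases Nat.lt_or_ge i 31744 with h | h
                ·
                  exact CosetEnum.allRange_spec lab_61 i (by omega) (by omega)
                ·
                  exact CosetEnum.allRange_spec lab_62 i (by omega) (by omega)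
            ·
              rcases Nat.lt_or_ge i 33280 with h | h
              ·
                rcases Nat.lt_or_ge i 32768 with h | h
                ·
                  exact CosetEnum.allRange_spec lab_63 i (by omega) (by omega)
                ·
                  exact CosetEnum.allRange_spec lab_64 i (by omega) (by omega)
              ·
                rcases Nat.lt_or_ge i 33792 with h | h
                ·
                  exact CosetEnum.allRange_spec lab_65 i (by omega) (by omega)
                ·
                  exact CosetEnum.allRange_spec lab_66 i (by omega) (by omega)
          ·
            rcases Nat.lt_or_ge i 36352 with h | h
            ·
              rcases Nat.lt_or_ge i 35328 with h | h
              ·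
                rcases Nat.lt_or_ge i 34816 with h | h
                ·
                  exact CosetEnum.allRange_spec lab_67 i (by omega) (by omega)
                ·
                  exact CosetEnum.allRange_spec lab_68 i (by omega) (by omega)
              ·
                rcases Nat.lt_or_ge i 35840 with h | h
                ·
                  exact CosetEnum.allRange_spec lab_69 i (by omega) (by omega)
                ·
                  exact CosetEnum.allRange_spec lab_70 i (by omega) (by omega)
            ·
              rcases Nat.lt_or_ge i 37376 with h | h
              ·
                rcases Nat.lt_or_ge i 36864 with h | h
                ·
                  exact CosetEnum.allRange_spec lab_71 i (by omega) (by omega)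
                ·
                  exact CosetEnum.allRange_spec lab_72 i (by omega) (by omega)
              ·
                rcases Nat.lt_or_ge i 37888 with h | h
                ·
                  exact CosetEnum.allRange_spec lab_73 i (by omega) (by omega)
                ·
                  exact CosetEnum.allRange_spec lab_74 i (by omega) (by omega)
        ·
          rcases Nat.lt_or_ge i 41984 with h | h
          ·
            rcases Nat.lt_or_ge i 39936 with h | h
            ·
              rcases Nat.lt_or_ge i 38912 with h | h
              ·
                exact CosetEnum.allRange_spec lab_75 i (by omega) (by omega)
              ·
                rcases Nat.lt_or_ge i 39424 with h | h
                ·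
                  exact CosetEnum.allRange_spec lab_76 i (by omega) (by omega)
                ·
                  exact CosetEnum.allRange_spec lab_77 i (by omega) (by omega)
            ·
              rcases Nat.lt_or_ge i 40960 with h | h
              ·
                rcases Nat.lt_or_ge i 40448 with h | h
                ·
                  exact CosetEnum.allRange_spec lab_78 i (by omega) (by omega)
                ·
                  exact CosetEnum.allRange_spec lab_79 i (by omega) (by omega)
              ·
                rcases Nat.lt_or_ge i 41472 with h | h
                ·
                  exact CosetEnum.allRange_spec lab_80 i (by omega) (by omega)
                ·
                  exact CosetEnum.allRange_spec lab_81 i (by omega) (by omega)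
          ·
            rcases Nat.lt_or_ge i 44032 with h | h
            ·
              rcases Nat.lt_or_ge i 43008 with h | h
              ·
                rcases Nat.lt_or_ge i 42496 with h | h
                ·
                  exact CosetEnum.allRange_spec lab_82 i (by omega) (by omega)
                ·
                  exact CosetEnum.allRange_spec lab_83 i (by omega) (by omega)
              ·
                rcases Nat.lt_or_ge i 43520 with h | h
                ·
                  exact CosetEnum.allRange_spec lab_84 i (by omega) (by omega)
                ·
                  exact CosetEnum.allRange_spec lab_85 i (by omega) (by omega)
            ·
              rcases Nat.lt_or_ge i 45056 with h | h
              ·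
                rcases Nat.lt_or_ge i 44544 with h | h
                ·
                  exact CosetEnum.allRange_spec lab_86 i (by omega) (by omega)
                ·
                  exact CosetEnum.allRange_spec lab_87 i (by omega) (by omega)
              ·
                rcases Nat.lt_or_ge i 45568 with h | h
                ·
                  exact CosetEnum.allRange_spec lab_88 i (by omega) (by omega)
                ·
                  exact CosetEnum.allRange_spec lab_89 i (by omega) (by omega)
      ·
        rcases Nat.lt_or_ge i 53760 with h | h
        ·
          rcases Nat.lt_or_ge i 49664 with h | h
          ·
            rcases Nat.lt_or_ge i 47616 with h | h
            ·
              rcases Nat.lt_or_ge i 46592 with h | h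
              ·
                exact CosetEnum.allRange_spec lab_90 i (by omega) (by omega)
              ·
                rcases Nat.lt_or_ge i 47104 with h | h
                ·
                  exact CosetEnum.allRange_spec lab_91 i (by omega) (by omega)
                ·
                  exact CosetEnum.allRange_spec lab_92 i (by omega) (by omega)
            ·
              rcases Nat.lt_or_ge i 48640 with h | h
              ·
                rcases Nat.lt_or_ge i 48128 with h | h
                ·
                  exact CosetEnum.allRange_spec lab_93 i (by omega) (by omega)
                ·
                  exact CosetEnum.allRange_spec lab_94 i (by omega) (by omega)
              ·
                rcases Nat.lt_or_ge i 49152 with h | h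
                ·
                  exact CosetEnum.allRange_spec lab_95 i (by omega) (by omega)
                ·
                  exact CosetEnum.allRange_spec lab_96 i (by omega) (by omega)
          ·
            rcases Nat.lt_or_ge i 51712 with h | h
            ·
              rcases Nat.lt_or_ge i 50688 with h | h
              ·
                rcases Nat.lt_or_ge i 50176 with h | h
                ·
                  exact CosetEnum.allRange_spec lab_97 i (by omega) (by omega)
                ·
                  exact CosetEnum.allRange_spec lab_98 i (by omega) (by omega)
              ·
                rcases Nat.lt_or_ge i 51200 with h | h
                ·
                  exact CosetEnum.allRange_spec lab_99 i (by omega) (by omega)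
                ·
                  exact CosetEnum.allRange_spec lab_100 i (by omega) (by omega)
            ·
              rcases Nat.lt_or_ge i 52736 with h | h
              ·
                rcases Nat.lt_or_ge i 52224 with h | h
                ·
                  exact CosetEnum.allRange_spec lab_101 i (by omega) (by omega)
                ·
                  exact CosetEnum.allRange_spec lab_102 i (by omega) (by omega)
              ·
                rcases Nat.lt_or_ge i 53248 with h | h
                ·
                  exact CosetEnum.allRange_spec lab_103 i (by omega) (by omega)
                ·
                  exact CosetEnum.allRange_spec lab_104 i (by omega) (by omega)
        ·
          rcases Nat.lt_or_ge i 57344 with h | h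
          ·
            rcases Nat.lt_or_ge i 55296 with h | h
            ·
              rcases Nat.lt_or_ge i 54272 with h | h
              ·
                exact CosetEnum.allRange_spec lab_105 i (by omega) (by omega)
              ·
                rcases Nat.lt_or_ge i 54784 with h | h
                ·
                  exact CosetEnum.allRange_spec lab_106 i (by omega) (by omega)
                ·
                  exact CosetEnum.allRange_spec lab_107 i (by omega) (by omega)
            ·
              rcases Nat.lt_or_ge i 56320 with h | h
              ·
                rcases Nat.lt_or_ge i 55808 with h | h
                ·
                  exact CosetEnum.allRange_spec lab_108 i (by omega) (by omega)
                ·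
                  exact CosetEnum.allRange_spec lab_109 i (by omega) (by omega)
              ·
                rcases Nat.lt_or_ge i 56832 with h | h
                ·
                  exact CosetEnum.allRange_spec lab_110 i (by omega) (by omega)
                ·
                  exact CosetEnum.allRange_spec lab_111 i (by omega) (by omega)
          ·
            rcases Nat.lt_or_ge i 59392 with h | h
            ·
              rcases Nat.lt_or_ge i 58368 with h | h
              ·
                rcases Nat.lt_or_ge i 57856 with h | h
                ·
                  exact CosetEnum.allRange_spec lab_112 i (by omega) (by omega)
                ·
                  exact CosetEnum.allRange_spec lab_113 i (by omega) (by omega)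
              ·
                rcases Nat.lt_or_ge i 58880 with h | h
                ·
                  exact CosetEnum.allRange_spec lab_114 i (by omega) (by omega)
                ·
                  exact CosetEnum.allRange_spec lab_115 i (by omega) (by omega)
            ·
              rcases Nat.lt_or_ge i 60416 with h | h
              ·
                rcases Nat.lt_or_ge i 59904 with h | h
                ·
                  exact CosetEnum.allRange_spec lab_116 i (by omega) (by omega)
                ·
                  exact CosetEnum.allRange_spec lab_117 i (by omega) (by omega)
              ·
                rcases Nat.lt_or_ge i 60928 with h | h
                ·
                  exact CosetEnum.allRange_spec lab_118 i (by omega) (by omega)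
                ·
                  exact CosetEnum.allRange_spec lab_119 i (by omega) (by omega)
  ·
    rcases Nat.lt_or_ge i 92160 with h | h
    ·
      rcases Nat.lt_or_ge i 76800 with h | h
      ·
        rcases Nat.lt_or_ge i 69120 with h | h
        ·
          rcases Nat.lt_or_ge i 65024 with h | h
          ·
            rcases Nat.lt_or_ge i 62976 with h | h
            ·
              rcases Nat.lt_or_ge i 61952 with h | h
              ·
                exact CosetEnum.allRange_spec lab_120 i (by omega) (by omega)
              ·
                rcases Nat.lt_or_ge i 62464 with h | h
                ·
                  exact CosetEnum.allRange_spec lab_121 i (by omega) (by omega)
                ·
                  exact CosetEnum.allRange_spec lab_122 i (by omega) (by omega)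
            ·
              rcases Nat.lt_or_ge i 64000 with h | h
              ·
                rcases Nat.lt_or_ge i 63488 with h | h
                ·
                  exact CosetEnum.allRange_spec lab_123 i (by omega) (by omega)
                ·
                  exact CosetEnum.allRange_spec lab_124 i (by omega) (by omega)
              ·
                rcases Nat.lt_or_ge i 64512 with h | h
                ·
                  exact CosetEnum.allRange_spec lab_125 i (by omega) (by omega)
                ·
                  exact CosetEnum.allRange_spec lab_126 i (by omega) (by omega)
          ·
            rcases Nat.lt_or_ge i 67072 with h | h
            ·
              rcases Nat.lt_or_ge i 66048 with h | h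
              ·
                rcases Nat.lt_or_ge i 65536 with h | h
                ·
                  exact CosetEnum.allRange_spec lab_127 i (by omega) (by omega)
                ·
                  exact CosetEnum.allRange_spec lab_128 i (by omega) (by omega)
              ·
                rcases Nat.lt_or_ge i 66560 with h | h
                ·
                  exact CosetEnum.allRange_spec lab_129 i (by omega) (by omega)
                ·
                  exact CosetEnum.allRange_spec lab_130 i (by omega) (by omega)
            ·
              rcases Nat.lt_or_ge i 68096 with h | h
              ·
                rcases Nat.lt_or_ge i 67584 with h | h
                ·
                  exact CosetEnum.allRange_spec lab_131 i (by omega) (by omega)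
                ·
                  exact CosetEnum.allRange_spec lab_132 i (by omega) (by omega)
              ·
                rcases Nat.lt_or_ge i 68608 with h | h
                ·
                  exact CosetEnum.allRange_spec lab_133 i (by omega) (by omega)
                ·
                  exact CosetEnum.allRange_spec lab_134 i (by omega) (by omega)
        ·
          rcases Nat.lt_or_ge i 72704 with h | h
          ·
            rcases Nat.lt_or_ge i 70656 with h | h
            ·
              rcases Nat.lt_or_ge i 69632 with h | h
              ·
                exact CosetEnum.allRange_spec lab_135 i (by omega) (by omega)
              ·
                rcases Nat.lt_or_ge i 70144 with h | h
                ·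
                  exact CosetEnum.allRange_spec lab_136 i (by omega) (by omega)
                ·
                  exact CosetEnum.allRange_spec lab_137 i (by omega) (by omega)
            ·
              rcases Nat.lt_or_ge i 71680 with h | h
              ·
                rcases Nat.lt_or_ge i 71168 with h | h
                ·
                  exact CosetEnum.allRange_spec lab_138 i (by omega) (by omega)
                ·
                  exact CosetEnum.allRange_spec lab_139 i (by omega) (by omega)
              ·
                rcases Nat.lt_or_ge i 72192 with h | h
                ·
                  exact CosetEnum.allRange_spec lab_140 i (by omega) (by omega)
                ·
                  exact CosetEnum.allRange_spec lab_141 i (by omega) (by omega)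
          ·
            rcases Nat.lt_or_ge i 74752 with h | h
            ·
              rcases Nat.lt_or_ge i 73728 with h | h
              ·
                rcases Nat.lt_or_ge i 73216 with h | h
                ·
                  exact CosetEnum.allRange_spec lab_142 i (by omega) (by omega)
                ·
                  exact CosetEnum.allRange_spec lab_143 i (by omega) (by omega)
              ·
                rcases Nat.lt_or_ge i 74240 with h | h
                ·
                  exact CosetEnum.allRange_spec lab_144 i (by omega) (by omega)
                ·
                  exact CosetEnum.allRange_spec lab_145 i (by omega) (by omega)
            ·
              rcases Nat.lt_or_ge i 75776 with h | h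
              ·
                rcases Nat.lt_or_ge i 75264 with h | h
                ·
                  exact CosetEnum.allRange_spec lab_146 i (by omega) (by omega)
                ·
                  exact CosetEnum.allRange_spec lab_147 i (by omega) (by omega)
              ·
                rcases Nat.lt_or_ge i 76288 with h | h
                ·
                  exact CosetEnum.allRange_spec lab_148 i (by omega) (by omega)
                ·
                  exact CosetEnum.allRange_spec lab_149 i (by omega) (by omega)
      ·
        rcases Nat.lt_or_ge i 84480 with h | h
        ·
          rcases Nat.lt_or_ge i 80384 with h | h
          ·
            rcases Nat.lt_or_ge i 78336 with h | h
            ·
              rcases Nat.lt_or_ge i 77312 with h | h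
              ·
                exact CosetEnum.allRange_spec lab_150 i (by omega) (by omega)
              ·
                rcases Nat.lt_or_ge i 77824 with h | h
                ·
                  exact CosetEnum.allRange_spec lab_151 i (by omega) (by omega)
                ·
                  exact CosetEnum.allRange_spec lab_152 i (by omega) (by omega)
            ·
              rcases Nat.lt_or_ge i 79360 with h | h
              ·
                rcases Nat.lt_or_ge i 78848 with h | h
                ·
                  exact CosetEnum.allRange_spec lab_153 i (by omega) (by omega)
                ·
                  exact CosetEnum.allRange_spec lab_154 i (by omega) (by omega)
              ·
                rcases Nat.lt_or_ge i 79872 with h | h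
                ·
                  exact CosetEnum.allRange_spec lab_155 i (by omega) (by omega)
                ·
                  exact CosetEnum.allRange_spec lab_156 i (by omega) (by omega)
          ·
            rcases Nat.lt_or_ge i 82432 with h | h
            ·
              rcases Nat.lt_or_ge i 81408 with h | h
              ·
                rcases Nat.lt_or_ge i 80896 with h | h
                ·
                  exact CosetEnum.allRange_spec lab_157 i (by omega) (by omega)
                ·
                  exact CosetEnum.allRange_spec lab_158 i (by omega) (by omega)
              ·
                rcases Nat.lt_or_ge i 81920 with h | h
                ·
                  exact CosetEnum.allRange_spec lab_159 i (by omega) (by omega)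
                ·
                  exact CosetEnum.allRange_spec lab_160 i (by omega) (by omega)
            ·
              rcases Nat.lt_or_ge i 83456 with h | h
              ·
                rcases Nat.lt_or_ge i 82944 with h | h
                ·
                  exact CosetEnum.allRange_spec lab_161 i (by omega) (by omega)
                ·
                  exact CosetEnum.allRange_spec lab_162 i (by omega) (by omega)
              ·
                rcases Nat.lt_or_ge i 83968 with h | h
                ·
                  exact CosetEnum.allRange_spec lab_163 i (by omega) (by omega)
                ·
                  exact CosetEnum.allRange_spec lab_164 i (by omega) (by omega)
        ·
          rcases Nat.lt_or_ge i 88064 with h | h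
          ·
            rcases Nat.lt_or_ge i 86016 with h | h
            ·
              rcases Nat.lt_or_ge i 84992 with h | h
              ·
                exact CosetEnum.allRange_spec lab_165 i (by omega) (by omega)
              ·
                rcases Nat.lt_or_ge i 85504 with h | h
                ·
                  exact CosetEnum.allRange_spec lab_166 i (by omega) (by omega)
                ·
                  exact CosetEnum.allRange_spec lab_167 i (by omega) (by omega)
            ·
              rcases Nat.lt_or_ge i 87040 with h | h
              ·
                rcases Nat.lt_or_ge i 86528 with h | h
                ·
                  exact CosetEnum.allRange_spec lab_168 i (by omega) (by omega)
                ·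
                  exact CosetEnum.allRange_spec lab_169 i (by omega) (by omega)
              ·
                rcases Nat.lt_or_ge i 87552 with h | h
                ·
                  exact CosetEnum.allRange_spec lab_170 i (by omega) (by omega)
                ·
                  exact CosetEnum.allRange_spec lab_171 i (by omega) (by omega)
          ·
            rcases Nat.lt_or_ge i 90112 with h | h
            ·
              rcases Nat.lt_or_ge i 89088 with h | h
              ·
                rcases Nat.lt_or_ge i 88576 with h | h
                ·
                  exact CosetEnum.allRange_spec lab_172 i (by omega) (by omega)
                ·
                  exact CosetEnum.allRange_spec lab_173 i (by omega) (by omega)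
              ·
                rcases Nat.lt_or_ge i 89600 with h | h
                ·
                  exact CosetEnum.allRange_spec lab_174 i (by omega) (by omega)
                ·
                  exact CosetEnum.allRange_spec lab_175 i (by omega) (by omega)
            ·
              rcases Nat.lt_or_ge i 91136 with h | h
              ·
                rcases Nat.lt_or_ge i 90624 with h | h
                ·
                  exact CosetEnum.allRange_spec lab_176 i (by omega) (by omega)
                ·
                  exact CosetEnum.allRange_spec lab_177 i (by omega) (by omega)
              ·
                rcases Nat.lt_or_ge i 91648 with h | h
                ·
                  exact CosetEnum.allRange_spec lab_178 i (by omega) (by omega)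
                ·
                  exact CosetEnum.allRange_spec lab_179 i (by omega) (by omega)
    ·
      rcases Nat.lt_or_ge i 107520 with h | h
      ·
        rcases Nat.lt_or_ge i 99840 with h | h
        ·
          rcases Nat.lt_or_ge i 95744 with h | h
          ·
            rcases Nat.lt_or_ge i 93696 with h | h
            ·
              rcases Nat.lt_or_ge i 92672 with h | h
              ·
                exact CosetEnum.allRange_spec lab_180 i (by omega) (by omega)
              ·
                rcases Nat.lt_or_ge i 93184 with h | h
                ·
                  exact CosetEnum.allRange_spec lab_181 i (by omega) (by omega)
                ·
                  exact CosetEnum.allRange_spec lab_182 i (by omega) (by omega)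
            ·
              rcases Nat.lt_or_ge i 94720 with h | h
              ·
                rcases Nat.lt_or_ge i 94208 with h | h
                ·
                  exact CosetEnum.allRange_spec lab_183 i (by omega) (by omega)
                ·
                  exact CosetEnum.allRange_spec lab_184 i (by omega) (by omega)
              ·
                rcases Nat.lt_or_ge i 95232 with h | h
                ·
                  exact CosetEnum.allRange_spec lab_185 i (by omega) (by omega)
                ·
                  exact CosetEnum.allRange_spec lab_186 i (by omega) (by omega)
          ·
            rcases Nat.lt_or_ge i 97792 with h | h
            ·
              rcases Nat.lt_or_ge i 96768 with h | h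
              ·
                rcases Nat.lt_or_ge i 96256 with h | h
                ·
                  exact CosetEnum.allRange_spec lab_187 i (by omega) (by omega)
                ·
                  exact CosetEnum.allRange_spec lab_188 i (by omega) (by omega)
              ·
                rcases Nat.lt_or_ge i 97280 with h | h
                ·
                  exact CosetEnum.allRange_spec lab_189 i (by omega) (by omega)
                ·
                  exact CosetEnum.allRange_spec lab_190 i (by omega) (by omega)
            ·
              rcases Nat.lt_or_ge i 98816 with h | h
              ·
                rcases Nat.lt_or_ge i 98304 with h | h
                ·
                  exact CosetEnum.allRange_spec lab_191 i (by omega) (by omega)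
                ·
                  exact CosetEnum.allRange_spec lab_192 i (by omega) (by omega)
              ·
                rcases Nat.lt_or_ge i 99328 with h | h
                ·
                  exact CosetEnum.allRange_spec lab_193 i (by omega) (by omega)
                ·
                  exact CosetEnum.allRange_spec lab_194 i (by omega) (by omega)
        ·
          rcases Nat.lt_or_ge i 103424 with h | h
          ·
            rcases Nat.lt_or_ge i 101376 with h | h
            ·
              rcases Nat.lt_or_ge i 100352 with h | h
              ·
                exact CosetEnum.allRange_spec lab_195 i (by omega) (by omega)
              ·
                rcases Nat.lt_or_ge i 100864 with h | h
                ·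
                  exact CosetEnum.allRange_spec lab_196 i (by omega) (by omega)
                ·
                  exact CosetEnum.allRange_spec lab_197 i (by omega) (by omega)
            ·
              rcases Nat.lt_or_ge i 102400 with h | h
              ·
                rcases Nat.lt_or_ge i 101888 with h | h
                ·
                  exact CosetEnum.allRange_spec lab_198 i (by omega) (by omega)
                ·
                  exact CosetEnum.allRange_spec lab_199 i (by omega) (by omega)
              ·
                rcases Nat.lt_or_ge i 102912 with h | h
                ·
                  exact CosetEnum.allRange_spec lab_200 i (by omega) (by omega)
                ·
                  exact CosetEnum.allRange_spec lab_201 i (by omega) (by omega)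
          ·
            rcases Nat.lt_or_ge i 105472 with h | h
            ·
              rcases Nat.lt_or_ge i 104448 with h | h
              ·
                rcases Nat.lt_or_ge i 103936 with h | h
                ·
                  exact CosetEnum.allRange_spec lab_202 i (by omega) (by omega)
                ·
                  exact CosetEnum.allRange_spec lab_203 i (by omega) (by omega)
              ·
                rcases Nat.lt_or_ge i 104960 with h | h
                ·
                  exact CosetEnum.allRange_spec lab_204 i (by omega) (by omega)
                ·
                  exact CosetEnum.allRange_spec lab_205 i (by omega) (by omega)
            ·
              rcases Nat.lt_or_ge i 106496 with h | h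
              ·
                rcases Nat.lt_or_ge i 105984 with h | h
                ·
                  exact CosetEnum.allRange_spec lab_206 i (by omega) (by omega)
                ·
                  exact CosetEnum.allRange_spec lab_207 i (by omega) (by omega)
              ·
                rcases Nat.lt_or_ge i 107008 with h | h
                ·
                  exact CosetEnum.allRange_spec lab_208 i (by omega) (by omega)
                ·
                  exact CosetEnum.allRange_spec lab_209 i (by omega) (by omega)
      ·
        rcases Nat.lt_or_ge i 115200 with h | h
        ·
          rcases Nat.lt_or_ge i 111104 with h | h
          ·
            rcases Nat.lt_or_ge i 109056 with h | h
            ·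
              rcases Nat.lt_or_ge i 108032 with h | h
              ·
                exact CosetEnum.allRange_spec lab_210 i (by omega) (by omega)
              ·
                rcases Nat.lt_or_ge i 108544 with h | h
                ·
                  exact CosetEnum.allRange_spec lab_211 i (by omega) (by omega)
                ·
                  exact CosetEnum.allRange_spec lab_212 i (by omega) (by omega)
            ·
              rcases Nat.lt_or_ge i 110080 with h | h
              ·
                rcases Nat.lt_or_ge i 109568 with h | h
                ·
                  exact CosetEnum.allRange_spec lab_213 i (by omega) (by omega)
                ·
                  exact CosetEnum.allRange_spec lab_214 i (by omega) (by omega)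
              ·
                rcases Nat.lt_or_ge i 110592 with h | h
                ·
                  exact CosetEnum.allRange_spec lab_215 i (by omega) (by omega)
                ·
                  exact CosetEnum.allRange_spec lab_216 i (by omega) (by omega)
          ·
            rcases Nat.lt_or_ge i 113152 with h | h
            ·
              rcases Nat.lt_or_ge i 112128 with h | h
              ·
                rcases Nat.lt_or_ge i 111616 with h | h
                ·
                  exact CosetEnum.allRange_spec lab_217 i (by omega) (by omega)
                ·
                  exact CosetEnum.allRange_spec lab_218 i (by omega) (by omega)
              ·
                rcases Nat.lt_or_ge i 112640 with h | h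
                ·
                  exact CosetEnum.allRange_spec lab_219 i (by omega) (by omega)
                ·
                  exact CosetEnum.allRange_spec lab_220 i (by omega) (by omega)
            ·
              rcases Nat.lt_or_ge i 114176 with h | h
              ·
                rcases Nat.lt_or_ge i 113664 with h | h
                ·
                  exact CosetEnum.allRange_spec lab_221 i (by omega) (by omega)
                ·
                  exact CosetEnum.allRange_spec lab_222 i (by omega) (by omega)
              ·
                rcases Nat.lt_or_ge i 114688 with h | h
                ·
                  exact CosetEnum.allRange_spec lab_223 i (by omega) (by omega)
                ·
                  exact CosetEnum.allRange_spec lab_224 i (by omega) (by omega)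
        ·
          rcases Nat.lt_or_ge i 118784 with h | h
          ·
            rcases Nat.lt_or_ge i 116736 with h | h
            ·
              rcases Nat.lt_or_ge i 115712 with h | h
              ·
                exact CosetEnum.allRange_spec lab_225 i (by omega) (by omega)
              ·
                rcases Nat.lt_or_ge i 116224 with h | h
                ·
                  exact CosetEnum.allRange_spec lab_226 i (by omega) (by omega)
                ·
                  exact CosetEnum.allRange_spec lab_227 i (by omega) (by omega)
            ·
              rcases Nat.lt_or_ge i 117760 with h | h
              ·
                rcases Nat.lt_or_ge i 117248 with h | h
                ·
                  exact CosetEnum.allRange_spec lab_228 i (by omega) (by omega)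
                ·
                  exact CosetEnum.allRange_spec lab_229 i (by omega) (by omega)
              ·
                rcases Nat.lt_or_ge i 118272 with h | h
                ·
                  exact CosetEnum.allRange_spec lab_230 i (by omega) (by omega)
                ·
                  exact CosetEnum.allRange_spec lab_231 i (by omega) (by omega)
          ·
            rcases Nat.lt_or_ge i 120832 with h | h
            ·
              rcases Nat.lt_or_ge i 119808 with h | h
              ·
                rcases Nat.lt_or_ge i 119296 with h | h
                ·
                  exact CosetEnum.allRange_spec lab_232 i (by omega) (by omega)
                ·
                  exact CosetEnum.allRange_spec lab_233 i (by omega) (by omega)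
              ·
                rcases Nat.lt_or_ge i 120320 with h | h
                ·
                  exact CosetEnum.allRange_spec lab_234 i (by omega) (by omega)
                ·
                  exact CosetEnum.allRange_spec lab_235 i (by omega) (by omega)
            ·
              rcases Nat.lt_or_ge i 121856 with h | h
              ·
                rcases Nat.lt_or_ge i 121344 with h | h
                ·
                  exact CosetEnum.allRange_spec lab_236 i (by omega) (by omega)
                ·
                  exact CosetEnum.allRange_spec lab_237 i (by omega) (by omega)
              ·
                rcases Nat.lt_or_ge i 122368 with h | h
                ·
                  exact CosetEnum.allRange_spec lab_238 i (by omega) (by omega)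
                ·
                  exact CosetEnum.allRange_spec lab_239 i (by omega) (by omega)

end Cfsg.Agent.ONMult41
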