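import Cfsg.Agent.ONMult41.Lab

set_option autoImplicit false
set_option maxRecDepth 100000

namespace Cfsg.Agent.ONMult41

theorem lab_0 : CosetEnum.allRange checkLab 0 512 = true := by decide +kernel

theorem lab_1 : CosetEnum.allRange checkLab 512 512 = true := by decide +kernel

theorem lab_2 : CosetEnum.allRange checkLab 1024 512 = true := by decide +kernel

theorem lab_3 : CosetEnum.allRange checkLab 1536 512 = true := by decide +kernel

theorem lab_4 : CosetEnum.allRange checkLab 2048 512 = true := by decide +kernel

theorem lab_5 : CosetEnum.allRange checkLab 2560 512 = true := by decide +kernel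

theorem lab_6 : CosetEnum.allRange checkLab 3072 512 = true := by decide +kernel

theorem lab_7 : CosetEnum.allRange checkLab 3584 512 = true := by decide +kernel

theorem lab_8 : CosetEnum.allRange checkLab 4096 512 = true := by decide +kernel

theorem lab_9 : CosetEnum.allRange checkLab 4608 512 = true := by decide +kernel

theorem lab_10 : CosetEnum.allRange checkLab 5120 512 = true := by decide +kernel

theorem lab_11 : CosetEnum.allRange checkLab 5632 512 = true := by decide +kernel

end Cfsg.Agent.ONMult41
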