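import Cfsg.Agent.ONMult41.Lab

set_option autoImplicit false
set_option maxRecDepth 100000

namespace Cfsg.Agent.ONMult41

theorem lab_228 : CosetEnum.allRange checkLab 116736 512 = true := by decide +kernel

theorem lab_229 : CosetEnum.allRange checkLab 117248 512 = true := by decide +kernel

theorem lab_230 : CosetEnum.allRange checkLab 117760 512 = true := by decide +kernel

theorem lab_231 : CosetEnum.allRange checkLab 118272 512 = true := by decide +kernel

theorem lab_232 : CosetEnum.allRange checkLab 118784 512 = true := by decide +kernel

theorem lab_233 : CosetEnum.allRange checkLab 119296 512 = true := by decide +kernel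

theorem lab_234 : CosetEnum.allRange checkLab 119808 512 = true := by decide +kernel

theorem lab_235 : CosetEnum.allRange checkLab 120320 512 = true := by decide +kernel

theorem lab_236 : CosetEnum.allRange checkLab 120832 512 = true := by decide +kernel

theorem lab_237 : CosetEnum.allRange checkLab 121344 512 = true := by decide +kernel

theorem lab_238 : CosetEnum.allRange checkLab 121856 512 = true := by decide +kernel

theorem lab_239 : CosetEnum.allRange checkLab 122368 392 = true := by decide +kernel

end Cfsg.Agent.ONMult41
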