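import Cfsg.Agent.ONMult41.CheckLab
import Cfsg.Agent.SporB.ON.Base
import Cfsg.Prelude.Def_KGroupFacts
import Mathlib.GroupTheory.SemidirectProduct

/-!
# A triple cover of the O'Nan group

The generators are lifted to the monomial group on the 122760 points by the labels of the table;
every relator lifts to a constant, so the lifts generate a central extension by a group of order
three, and it is stem since the lifts have order two or four.
-/

set_option autoImplicit false
set_option maxRecDepth 100000

namespace Cfsg.Agent.ONMult41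

open Cfsg.Agent.CosetEnum Cfsg.Agent.CosetEnum.ON

/-- The monomial kernel: functions on the points. -/
abbrev Fn : Type := Pt → Multiplicative (ZMod 3)

/-- The action of the O'Nan group on functions. -/
noncomputable def actFn : Gp →* MulAut Fn where
  toFun g :=
    { toFun := fun n i => n ((hom g)⁻¹ i)
      invFun := fun n i => n (hom g i)
      left_inv := fun n => funext fun i => by simp
      right_inv := fun n => funext fun i => by simp
      map_mul' := fun _ _ => rfl }
  map_one' := by
    ext n i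
    simp
  map_mul' g h := by
    ext n i
    simp [mul_inv_rev]

/-- The monomial group. -/
abbrev Mon : Type := Fn ⋊[actFn] Gp

/-- The lifted letters. -/
noncomputable def Lt (l : ℕ) : Mon :=
  ⟨fun i => Multiplicative.ofAdd (lab i l : ZMod 3), val l⟩

/-- A constant. -/
noncomputable def cst : Multiplicative (ZMod 3) →* Mon :=
  SemidirectProduct.inl.comp (Pi.constMonoidHom Pt (Multiplicative (ZMod 3)))

theorem cst_comm (t : Multiplicative (ZMod 3)) (x : Mon) : x * cst t = cst t * x := by
  ext
  · show x.left _ * t = t * x.left ((hom (1 : Gp))⁻¹ _)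
    rw [map_one, inv_one, mul_comm]
    rfl
  · show x.right * 1 = 1 * x.right
    rw [mul_one, one_mul]

theorem eval_right : ∀ W : List ℕ, (evalWord Lt W).right = evalWord val W
  | [] => rfl
  | l :: W => by
    show val l * (evalWord Lt W).right = val l * evalWord val W
    rw [eval_right W]

theorem eval_left : ∀ (W : List ℕ), (∀ l ∈ W, l < 8) → ∀ i : Pt,
    (evalWord Lt W).left i = Multiplicative.ofAdd (ls W i : ZMod 3)
  | [], _, _ => by simp [evalWord, ls]
  | l :: W, h, i => by
    have h8 := h l List.mem_cons_self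
    show Multiplicative.ofAdd (lab i l : ZMod 3) * (evalWord Lt W).left ((hom (val l))⁻¹ i) = _
    rw [eval_left W (fun x hx => h x (List.mem_cons_of_mem _ hx)), hom_val h8, inv_inv,
      perm_apply h8, ← ofAdd_add, ← Nat.cast_add]
    show _ = Multiplicative.ofAdd
      ((Nat.add (lab i l) (forceNat (Rep.act i l) (ls W)) : ℕ) : ZMod 3)
    rw [forceNat_eq]
    rfl

theorem relsC_ok : relsC.map Prod.fst = relsAll ∧
    (∀ r ∈ relsC, ∀ l ∈ r.1, l < 8) := by decide +kernel

theorem eval_rel {W : List ℕ} {c : ℕ} (h : (W, c) ∈ relsC) :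
    evalWord Lt W = cst (Multiplicative.ofAdd (c : ZMod 3)) := by
  apply SemidirectProduct.ext
  · funext i
    rw [eval_left W (relsC_ok.2 _ h) i]
    show _ = Multiplicative.ofAdd (c : ZMod 3)
    have h' := checkLab_ok i i.2
    simp only [checkLab, List.all_eq_true] at h'
    have h'' : ls W i % 3 = c := Nat.eq_of_beq_eq_true (h' _ h)
    rw [← h'', ZMod.natCast_mod]
  · rw [eval_right]
    exact rel_one W (relsC_ok.1 ▸ List.mem_map_of_mem (f := Prod.fst) h)

/-- The constants. -/
noncomputable def Cst : Subgroup Mon := cst.range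

instance cst_normal : Cst.Normal := ⟨by
  rintro _ ⟨t, rfl⟩ g
  exact ⟨t, by rw [cst_comm, mul_inv_cancel_right]⟩⟩

/-- The valuation of the generators. -/
noncomputable def gv : Cfsg.Spor.ON.Gen → Mon
  | .g => Lt 0
  | .a => Lt 2
  | .b => Lt 3
  | .c => Lt 4
  | .d => Lt 5
  | .e => Lt 6
  | .f => Lt 7

theorem gv_right (x : Cfsg.Spor.ON.Gen) : (gv x).right = PresentedGroup.of x := by
  cases x <;> rfl

theorem lets_gv {l : ℕ} (hl : l < 8) : lets gv l = Lt l := by
  interval_cases l
  pick_goal 2
  · show (Lt 0)⁻¹ = Lt 1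
    apply inv_eq_of_mul_eq_one_right
    have h := eval_rel (W := [0, 1]) (c := 0) (by decide)
    simpa [evalWord] using h
  all_goals rfl

theorem eval_gv : ∀ W : List ℕ, (∀ l ∈ W, l < 8) → evalWord (lets gv) W = evalWord Lt W
  | [], _ => rfl
  | l :: W, h => by
    show lets gv l * evalWord (lets gv) W = Lt l * evalWord Lt W
    rw [lets_gv (h l List.mem_cons_self), eval_gv W fun x hx => h x (List.mem_cons_of_mem _ hx)]

theorem rels_mem : ∀ W ∈ relsAll, evalWord (lets gv) W ∈ Cst := by
  intro W hW
  rw [← relsC_ok.1] at hW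
  obtain ⟨⟨W', c⟩, hr, rfl⟩ := List.mem_map.mp hW
  rw [eval_gv _ (relsC_ok.2 _ hr), eval_rel hr]
  exact ⟨_, rfl⟩

/-- The triple cover. -/
noncomputable def Cover : Subgroup Mon := Subgroup.closure (Set.range gv)

/-- The covering map. -/
noncomputable def proj : Cover →* Gp := SemidirectProduct.rightHom.comp Cover.subtype

theorem lets_comp {A B : Type} [Group A] [Group B] (f : A →* B) (v : Cfsg.Spor.ON.Gen → A) (l : ℕ) :
    f (lets v l) = lets (f ∘ v) l := by
  rcases lt_or_ge l 8 with hl | hl
  · interval_cases l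
    pick_goal 2
    · exact map_inv f _
    all_goals rfl
  · simp [lets, List.getD_eq_default, hl]

theorem ker_proj {x : Mon} (hx : x ∈ Cover) (h1 : x.right = 1) : x ∈ Cst := by
  let π : Mon →* Mon ⧸ Cst := QuotientGroup.mk' Cst
  have hkill : ∀ W ∈ relsAll, evalWord (lets (π ∘ gv)) W = 1 := by
    intro W hW
    have e : ∀ U : List ℕ, π (evalWord (lets gv) U) = evalWord (lets (π ∘ gv)) U := by
      intro U
      induction U with
      | nil => exact map_one π
      | cons l U ih =>
        show π (lets gv l * evalWord (lets gv) U) = _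
        rw [map_mul, ih, lets_comp]
        rfl
    rw [← e, QuotientGroup.mk'_apply, QuotientGroup.eq_one_iff]
    exact rels_mem W hW
  let ψ : Gp →* Mon ⧸ Cst := PresentedGroup.toGroup (kills _ hkill)
  have hagree : Set.EqOn π (ψ.comp SemidirectProduct.rightHom) (Cover : Set Mon) :=
    MonoidHom.eqOn_closure (by
      rintro _ ⟨y, rfl⟩
      show π (gv y) = ψ (gv y).right
      rw [gv_right, PresentedGroup.toGroup.of]
      rfl)
  have := hagree hx
  rw [MonoidHom.comp_apply, SemidirectProduct.rightHom_eq_right, h1, map_one] at this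
  exact (QuotientGroup.eq_one_iff x).mp this

theorem four (x : Cfsg.Spor.ON.Gen) : gv x ^ 4 = 1 := by
  have inv2 : ∀ {l : ℕ}, ([l, l], 0) ∈ relsC → Lt l * Lt l = 1 := fun h => by
    simpa [evalWord] using eval_rel h
  have sq : ∀ {l : ℕ}, ([l, l], 0) ∈ relsC → Lt l ^ 4 = 1 := fun h => by
    rw [show (4 : ℕ) = 2 * 2 from rfl, pow_mul, (pow_two _).trans (inv2 h), one_pow]
  cases x
  case g =>
    have h1 := eval_rel (W := [2, 7, 1, 1]) (c := 0) (by decide)
    have h2 := eval_rel (W := [2, 7, 2, 7]) (c := 0) (by decide)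
    have hi := eval_rel (W := [0, 1]) (c := 0) (by decide)
    simp only [evalWord, mul_one, Nat.cast_zero, ofAdd_zero, map_one] at h1 h2 hi
    rw [show Lt 1 = (Lt 0)⁻¹ from eq_inv_of_mul_eq_one_right hi] at h1
    show Lt 0 ^ 4 = 1
    have e : Lt 2 * Lt 7 = Lt 0 * Lt 0 := by
      calc Lt 2 * Lt 7 = Lt 2 * (Lt 7 * ((Lt 0)⁻¹ * (Lt 0)⁻¹)) * (Lt 0 * Lt 0) := by group
        _ = _ := by rw [h1, one_mul]
    calc Lt 0 ^ 4 = Lt 0 * Lt 0 * (Lt 0 * Lt 0) := by simp [pow_succ, mul_assoc]
      _ = 1 := by rw [← e]; simpa [mul_assoc] using h2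
  all_goals exact sq (by decide)

theorem cover_stem : Cfsg.IsStemExtension proj ∧ Nonempty (proj.ker ≃* Multiplicative (ZMod 3)) := by
  have hmem : ∀ y, gv y ∈ Cover := fun y => Subgroup.subset_closure ⟨y, rfl⟩
  have hsurj : Function.Surjective proj := by
    rw [← MonoidHom.range_eq_top, eq_top_iff, ← PresentedGroup.closure_range_of,
      Subgroup.closure_le]
    rintro _ ⟨y, rfl⟩
    exact ⟨⟨gv y, hmem y⟩, gv_right y⟩
  have hker : ∀ z ∈ proj.ker, ∃ t, (z : Mon) = cst t := fun z hz => by
    obtain ⟨t, ht⟩ := ker_proj z.2 hz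
    exact ⟨t, ht.symm⟩
  have hord : ∀ t : Multiplicative (ZMod 3), t ^ 3 = 1 := by decide
  refine ⟨⟨hsurj, fun z hz => ?_, fun z hz => ?_⟩, ?_⟩
  · obtain ⟨t, ht⟩ := hker z hz
    rw [Subgroup.mem_center_iff]
    exact fun w => Subtype.ext (by rw [Subgroup.coe_mul, Subgroup.coe_mul, ht, cst_comm])
  · have h4 : ∀ q : Abelianization Cover, q ^ 4 = 1 := by
      intro q
      obtain ⟨⟨w, hw⟩, rfl⟩ := QuotientGroup.mk_surjective q
      change Abelianization.of (⟨w, hw⟩ : Cover) ^ 4 = 1
      induction hw using Subgroup.closure_induction with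
      | mem y hy =>
        obtain ⟨y, rfl⟩ := hy
        rw [← map_pow]
        exact (congrArg Abelianization.of (Subtype.ext (four y) : _ = (1 : Cover))).trans (map_one _)
      | one => exact (congrArg (· ^ 4) (map_one _)).trans (one_pow _)
      | mul a b ha hb iha ihb =>
        rw [show (⟨a * b, _⟩ : Cover) = ⟨a, ha⟩ * ⟨b, hb⟩ from rfl, map_mul, mul_pow, iha, ihb,
          one_mul]
      | inv a ha iha =>
        rw [show (⟨a⁻¹, _⟩ : Cover) = (⟨a, ha⟩ : Cover)⁻¹ from rfl, map_inv, inv_pow, iha,
          inv_one]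
    obtain ⟨t, ht⟩ := hker z hz
    have h3 : z ^ 3 = 1 := Subtype.ext (by
      rw [SubgroupClass.coe_pow, ht, ← map_pow, hord, map_one]; rfl)
    have hz4 : z ^ 4 = z := by rw [pow_succ, h3, one_mul]
    rw [← Abelianization.ker_of, MonoidHom.mem_ker, ← hz4, map_pow]
    exact h4 _
  · let ev : proj.ker →* Multiplicative (ZMod 3) :=
      { toFun := fun z => (z.1 : Mon).left 0
        map_one' := rfl
        map_mul' := fun z w => by
          have hz : (z.1 : Mon).right = 1 := z.2
          show ((z.1 : Mon) * (w.1 : Mon)).left 0 = _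
          rw [SemidirectProduct.mul_left, hz, map_one]
          rfl }
    have hinj : Function.Injective ev := by
      rintro ⟨z, hz⟩ ⟨w, hw⟩ h
      obtain ⟨t, ht⟩ := hker z hz
      obtain ⟨s, hs⟩ := hker w hw
      have hts : t = s := by
        change (z : Mon).left 0 = (w : Mon).left 0 at h
        rw [ht, hs] at h
        exact h
      exact Subtype.ext (Subtype.ext (by rw [ht, hs, hts]))
    have he : evalWord Lt [0, 3, 4, 0, 4, 3, 0, 3, 4, 0, 4] ∈ Cover := by
      rw [← eval_gv _ (by decide)]
      have hl : ∀ l, l < 8 → lets gv l ∈ Cover := fun l hl => by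
        interval_cases l
        exacts [hmem .g, inv_mem (hmem .g), hmem .a, hmem .b, hmem .c, hmem .d, hmem .e, hmem .f]
      have hU : ∀ U : List ℕ, (∀ l ∈ U, l < 8) → evalWord (lets gv) U ∈ Cover := by
        intro U
        induction U with
        | nil => exact fun _ => one_mem _
        | cons l U ih =>
          exact fun h => mul_mem (hl l (h l List.mem_cons_self))
            (ih fun x hx => h x (List.mem_cons_of_mem _ hx))
      exact hU _ (by decide)
    have e1 := eval_rel (W := [0, 3, 4, 0, 4, 3, 0, 3, 4, 0, 4]) (c := 1) (by decide)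
    rw [e1] at he
    let z₀ : proj.ker := ⟨⟨cst (Multiplicative.ofAdd ((1 : ℕ) : ZMod 3)), he⟩, rfl⟩
    have hsur : Function.Surjective ev := by
      intro s
      have hg : ∀ s : Multiplicative (ZMod 3), ∃ n : Fin 3,
          Multiplicative.ofAdd ((1 : ℕ) : ZMod 3) ^ (n : ℕ) = s := by decide
      obtain ⟨n, hn⟩ := hg s
      exact ⟨z₀ ^ (n : ℕ), by rw [map_pow]; exact hn⟩
    exact ⟨MulEquiv.ofBijective ev ⟨hinj, hsur⟩⟩

theorem cover_finite : Finite Cover := by
  haveI := ON.finite
  haveI : Finite Mon := Finite.of_equiv (Fn × Gp) SemidirectProduct.equivProd.symm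
  infer_instance

end Cfsg.Agent.ONMult41
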