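import Mathlib.Data.Nat.Notation

/-!
Witness words for the O'Nan multiplier: conjugators to the generators and square decompositions in a centraliser.
-/

set_option autoImplicit false
set_option maxRecDepth 100000

namespace Cfsg.Agent.ONMult41.Data

/-- A square root of `g²` that is central in the derived centraliser. -/
def zw : List ℕ := [2,4,5,4,5]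

/-- Conjugates `g²` to the letter 2. -/
def pA : List ℕ := [6,3,6,4,5,0,7,4,5,2,3,1,4,3,6,0,0,6,3,4,0,3,2,5,4,7,1,5,4,6,3,6,2,6,3,6,4,5,0,7,4,5,2,3,1,4,3,6,0,0,6,3,4,0,3,2,5,4,7,1,5,4,6,3,6,2,6,3,6,4,5,0,7,4,5,2,3,1,4,3,6,0,0,6,3,4,0,3,2,5,4,7,1,5,4,6,3,6,2,6,3,6,4,5,0,7,4,5,2,3,1,4,3,6]

/-- Conjugates `g²` to the letter 3. -/
def pB : List ℕ := [1,2,4,5,3,7,3,0,3,2,4,1,6,7,3,0,0,3,7,6,0,4,2,3,1,3,7,3,5,4,2,0,3,1,2,4,5,3,7,3,0,3,2,4,1,6,7,3,0,0,3,7,6,0,4,2,3,1,3,7,3,5,4,2,0,3,1,2,4,5,3,7,3,0,3,2,4,1,6,7,3,0,0,3,7,6,0,4,2,3,1,3,7,3,5,4,2,0,3,1,2,4,5,3,7,3,0,3,2,4,1,6,7,3,0,0,3,7,6,0,4,2,3,1,3,7,3,5,4,2,0,3,1,2,4,5,3,7,3,0,3,2,4,1,6,7,3,0,0,3,7,6,0,4,2,3,1,3,7,3,5,4,2,0,3,1,2,4,5,3,7,3,0,3,2,4,1,6,7,3,0,0,3,7,6,0,4,2,3,1,3,7,3,5,4,2,0,3,1,2,4,5,3,7,3,0,3,2,4,1,6,7,3,0,0,3,7,6,0,4,2,3,1,3,7,3,5,4,2,0,3,1,2,4,5,3,7,3,0,3,2,4,1,6,7,3,1]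

/-- Conjugates `g²` to the letter 4. -/
def pC : List ℕ := [5,1,4,1,7,2,3,2,7,2,4,0,0,4,2,7,2,3,2,7,0,4,0,5,4,5,1,4,1,7,2,3,2,7,2,4,1,1]

/-- Conjugates `g²` to the letter 5. -/
def pD : List ℕ := [0,7,0,4,1,5,6,0,0,6,5,0,4,1,7,1,5,0,7,0,4,1,5,6,0,0,6,5,0,4,1,7,1,5,0,7,0,4,1,5,6]

/-- Conjugates `g²` to the letter 6. -/
def pE : List ℕ := [2,5,4,6,7,1,5,0,4,7,6,5,0,0,5,6,7,4,1,5,0,7,6,4,5,2,6,2,5,4,6,7,1,5,0,4,7,6,5]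

/-- Conjugates `g²` to the letter 7. -/
def pF : List ℕ := [1,5,0,6,1,4,2,5,4,6,5,7,6,2,7,2,4,0,0,4,2,7,2,6,7,5,6,4,5,2,4,0,6,1,5,0,7,1,5,0,6,1,4,2,5,4,6,5,7,6,2,7,2,4,0,0,4,2,7,2,6,7,5,6,4,5,2,4,0,6,1,5,0,7,1,5,0,6,1,4,2,5,4,6,5,7,6,2,7,2,4]

/-- Conjugates `g²` to the product of three roots. -/
def pM : List ℕ := [4,7,3,7,3,1,5,6,1,6,1,5,6,0,0,6,5,0,6,0,6,5,0,3,7,3,7,4,2,4,5,4,5,6,3,6,4,5,0,7,4,5,2,3,1,4,3,6,0,0,6,3,4,0,3,2,5,4,7,1,5,4,6,3,6,2,6,3,6,4,5,0,7,4,5,2,3,1,4,3,6,0,0,6,3,4,0,3,2,5,4,7,1,5,4,6,3,6,2,6,3,6,4,5,0,7,4,5,2,3,1,4,3,6,0,0,6,3,4,0,3,2,5,4,7,1,5,4,6,3,6,2,6,3,6,4,5,0,7,4,5,2,3,1,4,3,6,2,4,5,4,5,6,3,4,0,3,2,5,4,7,1,5,4,6,3,6,2,6,3,6,4,5,0,7,4,5,2,3,1,4,3,6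,1,1,6,3,4,0,3,2,5,4,7,1,5,4,6,3,6,2,6,3,6,4,5,0,7,4,5,2,3,1,4,3,6,1,1,6,3,4,0,3,2,5,4,7,1,5,4,6,3,6,2,6,3,6,4,5,0,7,4,5,2,3,1,4,3,6,1,1,6,3,4,0,3,2,5,4,7,1,5,4,6,3,6,1,5,0,6,1,4,2,5,4,6,5,7,6,2,7,2,4,0,0,4,2,7,2,6,7,5,6,4,5,2,4,0,6,1,5,0,7,1,5,0,6,1,4,2,5,4,6,5,7,6,2,7,2,4,0,0,4,2,7,2,6,7,5,6,4,5,2,4,0,6,1,5,0,7,1,5,0,6,1,4,2,5,4,6,5,7,6,2,7,2,4,2,4,5,4,5,4,2,7,2,6,7,5,6,4,5,2,4,0,6,1,5,0,7,1,5,0,6,1,4,2,5,4,6,5,7,6,2,7,2,4,1,1,4,2,7,2,6,7,5,6,4,5,2,4,0,6,1,5,0,7,1,5,0,6,1,4,2,5,4,6,5,7,6,2,7,2,4,1,1,4,2,7,2,6,7,5,6,4,5,2,4,0,6,1,5,0,4,7,3,7,3,1,5,6,1,6,1,5,6]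

/-- Squares in the centraliser of `zw`. -/
def sqG : List (List ℕ) := [[2,4,0,6,3,4,7,5,6,4,3,2,7,3,4,6,5,7,4,3,6,1,2,7,0,6,3,4,7,5,6,4,3,0,6,3,4,7,5,6,4,3,2,7,3,4,6,5,7,4,3,6,1,2,7,0,6,3,4,7,5,6,4,3,4,5,0,6,3,4,7,5,6,4,3,2,7,3,4,6,5,7,4,3,6,1,2,7,0,6,3,4,7,5,6,4,3,0,6,3,4,7,5,6,4,3,2,7,3,4,6,5,7,4,3,6,1,2,7,0,6,3,4,7,5,6,4,3,0,4]]

/-- Conjugates `g²` to an involution. -/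
def twG : List ℕ := [2,1,3,6,0,0,6,3,0,2,0,5,4,5,4,1,3,6,0,0,6,3,0,2,0,5,4,5,4,1,3,6]

/-- Squares in the centraliser of `zw`. -/
def sqCd : List (List ℕ) := [[4,5]]

/-- Conjugates `g²` to an involution. -/
def twCd : List ℕ := [6,3,6,4,5,0,7,4,5,2,3,1,4,3,6,0,0,6,3,4,0,3,2,5,4,7,1,5,4,6,3,6,2,6,3,6,4,5,0,7,4,5,2,3,1,4,3,6,0,0,6,3,4,0,3,2,5,4,7,1,5,4,6,3,6,2,6,3,6,4,5,0,7,4,5,2,3,1,4,3,6,0,0,6,3,4,0,3,2,5,4,7,1,5,4,6,3,6,2,6,3,6,4,5,0,7,4,5,2,3,1,4,3,6]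

/-- Squares in the centraliser of `zw`. -/
def sqUb : List (List ℕ) := [[2,4,5,0,6,3,4,7,5,6,4,3,2,7,3,4,6,5,7,4,3,6,1,2,7,0,6,3,4,7,5,6,4,3,4,0,5,0,6,3,4,7,5,6,4,3,2,7,3,4,6,5,7,4,3,6,1,2,7,0,6,3,4,7,5,6,4,3]]

/-- Conjugates `g²` to an involution. -/
def twUb : List ℕ := [3,6,0,4,0,5,2,3,2,1,3,4,2,7,0,0,7,2,4,3,0,2,3,2,5,1,4,1,6,3,0,3,7,6,0,4,2,3,1,3,7,3,5,4,2,0,3,1,2,4,5,3,7,3,0,3,2,4,1,6,7,3,1,1,3,7,6,0,4,2,3,1,3,7,3,5,4,2,0,3,1,2,4,5,3,7,3,0,3,2,4,1,6,7,3,1,1,3,7,6,0,4,2,3,1,3,7,3,5,4,2,0,3,1,2,4,5,3,7,3,0,3,2,4,1,6,7,3,1,1,3,7,6,0,4,2,3,1,3,7,3,5,4,2,0,3,1,2,4,5,3,7,3,0,3,2,4,1,6,7,3,1,1,3,7,6,0,4,2,3,1,3,7,3,5,4,2,0,3,1,2,4,5,3,7,3,0,3,2,4,1,6,7,3,1,1,3,7,6,0,4,2,3,1,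3,7,3,5,4,2,0,3,1,2,4,5,3,7,3,0,3,2,4,1,6,7,3,1,1,3,7,6,0,4,2,3,1,3,7,3,5,4,2,0,3,1,2,4,5,3,7,3,0,3,2,4,1,6,7,3,1,1,3,7,6,0,4,2,3,1,3,7,3,5,4,2,0,3,0,3,4,0,4,1,2,4,5,3,7,3,0,3,2,4,1,6,7,3,0,0,3,7,6,0,4,2,3,1,3,7,3,5,4,2,0,3,1,2,4,5,3,7,3,0,3,2,4,1,6,7,3,0,0,3,7,6,0,4,2,3,1,3,7,3,5,4,2,0,3,1,2,4,5,3,7,3,0,3,2,4,1,6,7,3,0,0,3,7,6,0,4,2,3,1,3,7,3,5,4,2,0,3,1,2,4,5,3,7,3,0,3,2,4,1,6,7,3,0,0,3,7,6,0,4,2,3,1,3,7,3,5,4,2,0,3,1,2,4,5,3,7,3,0,3,2,4,1,6,7,3,0,0,3,7,6,0,4,2,3,1,3,7,3,5,4,2,0,3,1,2,4,5,3,7,3,0,3,2,4,1,6,7,3,0,0,3,7,6,0,4,2,3,1,3,7,3,5,4,2,0,3,1,2,4,5,3,7,3,0,3,2,4,1,6,7,3,0,0,3,7,6,0,4,2,3,1,3,7,3,5,4,2,0,3,1,2,4,5,3,7,3,0,3,2,4,1,6,7,3,1,5,4,5,4,2,3,6,0,4,0,5,2,3,2,1,3,4,2,7]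

/-- Squares in the centraliser of `zw`. -/
def sqUe : List (List ℕ) := [[4,5]]

/-- Conjugates `g²` to an involution. -/
def twUe : List ℕ := [6,3,6,4,5,0,7,4,5,2,3,1,4,3,6,0,0,6,3,4,0,3,2,5,4,7,1,5,4,6,3,6,2,6,3,6,4,5,0,7,4,5,2,3,1,4,3,6,0,0,6,3,4,0,3,2,5,4,7,1,5,4,6,3,6,2,6,3,6,4,5,0,7,4,5,2,3,1,4,3,6,0,0,6,3,4,0,3,2,5,4,7,1,5,4,6,3,6,2,6,3,6,4,5,0,7,4,5,2,3,1,4,3,6]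

/-- Squares in the centraliser of `zw`. -/
def sqRa : List (List ℕ) := [[4,0,6,3,4,7,5,6,4,3,2,7,3,4,6,5,7,4,3,6,1,2,7,0,6,3,4,7,5,6,4,3],
  [0,6,3,4,7,5,6,4,3,2,7,3,4,6,5,7,4,3,6,1,2,7,0,6,3,4,7,5,6,4,3,0,6,3,4,7,5,6,4,3,2,7,3,4,6,5,7,4,3,6,1,2,7,0,6,3,4,7,5,6,4,3]]

/-- Squares in the centraliser of `zw`. -/
def sqRf : List (List ℕ) := [[4,0,6,3,4,7,5,6,4,3,2,7,3,4,6,5,7,4,3,6,1,2,7,0,6,3,4,7,5,6,4,3],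
  [5,0,5,0,6,3,4,7,5,6,4,3,2,7,3,4,6,5,7,4,3,6,1,2,7,0,6,3,4,7,5,6,4,3,0,6,3,4,7,5,6,4,3,2,7,3,4,6,5,7,4,3,6,1,2,7,0,6,3,4,7,5,6,4,3,2]]

/-- Squares in the centraliser of `zw`. -/
def sqRfa : List (List ℕ) := [[0,6,3,4,7,5,6,4,3,2,7,3,4,6,5,7,4,3,6,1,2,7,0,6,3,4,7,5,6,4,3,4],
  [0,6,3,4,7,5,6,4,3,2,7,3,4,6,5,7,4,3,6,1,2,7,0,6,3,4,7,5,6,4,3,5,4,0,6,3,4,7,5,6,4,3,2,7,3,4,6,5,7,4,3,6,1,2,7,0,6,3,4,7,5,6,4,3,5,0,6,3,4,7,5,6,4,3,2,7,3,4,6,5,7,4,3,6,1,2,7,0,6,3,4,7,5,6,4,3,2,0,6,3,4,7,5,6,4,3,2,7,3,4,6,5,7,4,3,6,1,2,7,0,6,3,4,7,5,6,4,3,0,6,3,4,7,5,6,4,3,2,7,3,4,6,5,7,4,3,6,1,2,7,0,6,3,4,7,5,6,4,3]]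

end Cfsg.Agent.ONMult41.Data
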