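import Cfsg.Agent.ONMult41.Words
import Cfsg.Agent.ONMult41.Data
import Cfsg.Agent.PresMult70.Exp2

/-!
# Central extensions of the O'Nan group with kernel of exponent two

With `z` a square root of `u = g²` that every element of `C(u)` centralises or inverts, the square
`T` of a lift of `z` is a canonical lift of `u`, and so are its conjugates of every involution.
-/

set_option autoImplicit false
set_option maxRecDepth 100000

namespace Cfsg.Agent.ONMult41

open Cfsg.Agent.CosetEnum Cfsg.Agent.CosetEnum.ON Cfsg.Agent.PresMult70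

universe u
variable {E : Type u} [Group E] (σ : E →* Gp) (hs : Function.Surjective σ)
  (hc : σ.ker ≤ Subgroup.center E) (h2 : ∀ k, σ k = 1 → k * k = 1)

/-- A lift of a word. -/
noncomputable def lf (W : List ℕ) : E := Function.surjInv hs (V W)

/-- The lift of `g²`. -/
noncomputable def T : E := lf σ hs Data.zw * lf σ hs Data.zw

/-- The lift of the conjugate of `g²` by a word. -/
noncomputable def L (P : List ℕ) : E := lf σ hs P * T σ hs * (lf σ hs P)⁻¹

theorem map_lf (W : List ℕ) : σ (lf σ hs W) = V W := Function.surjInv_eq hs _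

theorem map_T : σ (T σ hs) = V [0, 0] := by
  rw [T, map_mul, map_lf, ← V_append]
  exact word_eq (by decide +kernel)

theorem map_L {P W : List ℕ} (h : sameAction (cw P [0, 0]) W = true) (hP : okWord P = true) :
    σ (L σ hs P) = V W := by
  rw [L, map_mul, map_mul, map_inv, map_lf, map_T, ← V_cw hP]
  exact word_eq h

theorem map_T_sq : σ (T σ hs * T σ hs) = 1 := by
  rw [map_mul, map_T, ← V_append]
  exact word_eq (W := []) (by decide +kernel)

include hs hc h2

/-- An element commutes with a lift of `z` if it is a product of squares centralising `z`. -/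
theorem commute_z (ws : List (List ℕ))
    (hws : ws.all (fun s => sameAction (s ++ Data.zw) (Data.zw ++ s)) = true)
    {W : List ℕ} (hW : sameAction (ws.flatMap fun s => s ++ s) W = true)
    {x z : E} (hx : σ x = V W) (hz : σ z = V Data.zw) : Commute x z := by
  have key : ∀ ws : List (List ℕ),
      ws.all (fun s => sameAction (s ++ Data.zw) (Data.zw ++ s)) = true →
      ∃ y : E, σ y = V (ws.flatMap fun s => s ++ s) ∧ Commute y z := by
    intro ws
    induction ws with
    | nil => exact fun _ => ⟨1, map_one σ, Commute.one_left z⟩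
    | cons s ws ih =>
      intro hall
      rw [List.all_cons, Bool.and_eq_true] at hall
      obtain ⟨y, hy, hyz⟩ := ih hall.2
      refine ⟨lf σ hs s * lf σ hs s * y, ?_, ?_⟩
      · rw [map_mul, map_mul, map_lf, hy, ← V_append, ← V_append, List.flatMap_cons]
      · refine ((commute_sq σ hc h2 ?_).symm).mul_left hyz
        rw [hz, map_lf]
        show V Data.zw * V s = V s * V Data.zw
        rw [← V_append, ← V_append]
        exact (word_eq hall.1).symm
  obtain ⟨y, hy, hyz⟩ := key ws hws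
  exact commute_of_eq σ hc (by rw [hx, hy, word_eq hW]) rfl hyz

omit h2 in
theorem L_sq_eq (P : List ℕ) : L σ hs P * L σ hs P = T σ hs * T σ hs := by
  calc L σ hs P * L σ hs P = lf σ hs P * (T σ hs * T σ hs) * (lf σ hs P)⁻¹ := by rw [L]; group
    _ = _ := by rw [central_move σ hc (map_T_sq σ hs)]; group

omit hc h2 in
theorem L_eq_sq (P : List ℕ) : L σ hs P =
    lf σ hs P * lf σ hs Data.zw * (lf σ hs P)⁻¹ * (lf σ hs P * lf σ hs Data.zw * (lf σ hs P)⁻¹) := by
  rw [L, T]; group

/-- The basic triple gives `T² = 1` and the product rule. -/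
theorem triple : T σ hs * T σ hs = 1 ∧ L σ hs Data.pA * L σ hs Data.pF = T σ hs := by
  have hA : okWord Data.pA = true := by decide +kernel
  have hF : okWord Data.pF = true := by decide +kernel
  obtain ⟨z, hzd⟩ : ∃ z, z = lf σ hs Data.zw := ⟨_, rfl⟩
  obtain ⟨p, hpd⟩ : ∃ p, p = lf σ hs Data.pA := ⟨_, rfl⟩
  obtain ⟨r, hrd⟩ : ∃ r, r = p * z * p⁻¹ := ⟨_, rfl⟩
  obtain ⟨s, hsd⟩ : ∃ s, s = lf σ hs Data.pF * z * (lf σ hs Data.pF)⁻¹ := ⟨_, rfl⟩
  have hz : σ z = V Data.zw := by rw [hzd, map_lf]
  have hr : σ r = V (cw Data.pA Data.zw) := by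
    rw [hrd, hpd, map_mul, map_mul, map_inv, map_lf, hz, ← V_cw hA]
  have hs' : σ s = V (cw Data.pF Data.zw) := by
    rw [hsd, map_mul, map_mul, map_inv, map_lf, hz, ← V_cw hF]
  have crz : Commute r z :=
    commute_z σ hs hc h2 Data.sqRa (by decide +kernel) (by decide +kernel) hr hz
  have csz : Commute s z :=
    commute_z σ hs hc h2 Data.sqRf (by decide +kernel) (by decide +kernel) hs' hz
  have hx : σ (p⁻¹ * s * p) = V (winv Data.pA ++ cw Data.pF Data.zw ++ Data.pA) := by
    rw [map_mul, map_mul, map_inv, hs', hpd, map_lf, V_append, V_append, V_winv hA]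
  have csr : Commute s r := by
    have h := commute_z σ hs hc h2 Data.sqRfa (by decide +kernel) (by decide +kernel) hx hz
    refine commute_conj σ hc (w := p) h ?_ ?_
    · rw [show p * (p⁻¹ * s * p) * p⁻¹ = s by group]
    · rw [hrd]
  have hm : σ (z * r * s) = σ (L σ hs Data.pM) := by
    rw [map_mul, map_mul, hz, hr, hs', ← V_append, ← V_append]
    exact (map_L σ hs (by decide +kernel) (by decide +kernel)).symm
  have e := sq_eq σ hc h2 hm
  rw [L_sq_eq σ hs hc] at e
  have eA : L σ hs Data.pA = r * r := by rw [L_eq_sq σ hs, hrd, hpd, hzd]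
  have eF : L σ hs Data.pF = s * s := by rw [L_eq_sq σ hs, hsd, hzd]
  have hA2 := L_sq_eq σ hs hc Data.pA
  have hF2 := L_sq_eq σ hs hc Data.pF
  have hω := h2 _ (map_T_sq σ hs)
  have hprod : z * z * (r * r) * (s * s) = T σ hs * T σ hs := by
    rw [← e, (csz.mul_right csr).mul_mul_mul_comm, crz.mul_mul_mul_comm]
  rw [← eA, ← eF, hzd] at hprod
  change T σ hs * L σ hs Data.pA * L σ hs Data.pF = T σ hs * T σ hs at hprod
  have cTA : Commute (T σ hs) (L σ hs Data.pA) := by
    rw [eA, T, ← hzd]; exact ((crz.symm.mul_right crz.symm).mul_left (crz.symm.mul_right crz.symm))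
  have cTF : Commute (T σ hs) (L σ hs Data.pF) := by
    rw [eF, T, ← hzd]; exact ((csz.symm.mul_right csz.symm).mul_left (csz.symm.mul_right csz.symm))
  have cAF : Commute (L σ hs Data.pA) (L σ hs Data.pF) := by
    rw [eA, eF]; exact ((csr.symm.mul_right csr.symm).mul_left (csr.symm.mul_right csr.symm))
  have hsq := congrArg (fun x => x * x) hprod
  rw [(cTF.mul_left cAF).symm.mul_mul_mul_comm, cTA.symm.mul_mul_mul_comm, hA2, hF2, hω,
    one_mul] at hsq
  exact ⟨hsq, mul_left_cancel ((mul_assoc _ _ _).symm.trans hprod)⟩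

theorem T_sq : T σ hs * T σ hs = 1 := (triple σ hs hc h2).1

theorem L_sq (P : List ℕ) : L σ hs P * L σ hs P = 1 := by
  rw [L_sq_eq σ hs hc, T_sq σ hs hc h2]

theorem L_inv (P : List ℕ) : (L σ hs P)⁻¹ = L σ hs P :=
  inv_eq_of_mul_eq_one_right (L_sq σ hs hc h2 P)

/-- An element mapping `z` to `z` or `z⁻¹` fixes `T`. -/
theorem fix_T {k : E} {K : List ℕ} (hk : σ k = V K) (hK : okWord K = true)
    (h : (sameAction (cw K Data.zw) Data.zw || sameAction (cw K Data.zw) (winv Data.zw)) = true) :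
    k * T σ hs * k⁻¹ = T σ hs := by
  have hz := map_lf σ hs Data.zw
  have hkz : σ (k * lf σ hs Data.zw * k⁻¹) = V (cw K Data.zw) := by
    rw [map_mul, map_mul, map_inv, hk, hz, V_cw hK]
  have e : k * T σ hs * k⁻¹ = k * lf σ hs Data.zw * k⁻¹ * (k * lf σ hs Data.zw * k⁻¹) := by
    rw [T]; group
  rw [e]
  rcases Bool.or_eq_true _ _ ▸ h with h' | h'
  · exact sq_eq σ hc h2 (by rw [hkz, hz, word_eq h'])
  · rw [sq_eq σ hc h2 (y := (lf σ hs Data.zw)⁻¹)
      (by rw [hkz, map_inv, hz, word_eq h', V_winv (by decide +kernel)]), ← mul_inv_rev]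
    exact inv_eq_of_mul_eq_one_right (T_sq σ hs hc h2)

/-- The certificate that the conjugates of `g²` by two words agree canonically. -/
noncomputable def sameRoot (A B : List ℕ) : Bool :=
  okWord A && okWord B &&
  (sameAction (cw (winv B ++ A) Data.zw) Data.zw ||
    sameAction (cw (winv B ++ A) Data.zw) (winv Data.zw))

theorem conj_eq {w₁ w₂ : E} {W₁ W₂ P₁ P₂ : List ℕ} (h₁ : σ w₁ = V W₁) (h₂ : σ w₂ = V W₂)
    (h : sameRoot (W₁ ++ P₁) (W₂ ++ P₂) = true) :
    w₁ * L σ hs P₁ * w₁⁻¹ = w₂ * L σ hs P₂ * w₂⁻¹ := by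
  simp only [sameRoot, Bool.and_eq_true] at h
  obtain ⟨⟨hA, hB⟩, h'⟩ := h
  have hBi : V (winv (W₂ ++ P₂)) = (V (W₂ ++ P₂))⁻¹ := V_winv hB
  have hk := fix_T σ hs hc h2 (k := (w₂ * lf σ hs P₂)⁻¹ * (w₁ * lf σ hs P₁))
    (K := winv (W₂ ++ P₂) ++ (W₁ ++ P₁))
    (by rw [map_mul, map_inv, map_mul, map_mul, h₁, h₂, map_lf, map_lf, V_append, hBi, V_append,
      V_append])
    (by
      have hs8 : ∀ {W : List ℕ}, okWord W = true → okWord (winv W) = true := by
        intro W hW
        simp only [okWord, winv, List.all_reverse, List.all_map, List.all_eq_true] at hW ⊢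
        intro l hl
        exact Nat.ble_eq_true_of_le (linv_lt (Nat.le_of_ble_eq_true (hW l hl))).1
      have hh := hs8 hB
      unfold okWord at hh hA ⊢
      rw [List.all_append, hh, hA]; rfl) h'
  calc w₁ * L σ hs P₁ * w₁⁻¹
      = w₂ * lf σ hs P₂ * ((w₂ * lf σ hs P₂)⁻¹ * (w₁ * lf σ hs P₁) * T σ hs *
          ((w₂ * lf σ hs P₂)⁻¹ * (w₁ * lf σ hs P₁))⁻¹) * (w₂ * lf σ hs P₂)⁻¹ := by rw [L]; group
    _ = _ := by rw [hk, L]; group

theorem conj_self {w : E} {W P : List ℕ} (hw : σ w = V W) (h : sameRoot (W ++ P) P = true) :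
    w * L σ hs P * w⁻¹ = L σ hs P := by
  have h' := conj_eq σ hs hc h2 (w₂ := 1) (W₂ := []) (P₂ := P) hw (map_one σ)
    (P₁ := P) (by simpa using h)
  rwa [one_mul, inv_one, mul_one] at h'

/-- A product of `z` with an involution centralising it has the square `T`. -/
theorem sq_T (ws : List (List ℕ)) (P : List ℕ)
    (hws : ws.all (fun s => sameAction (s ++ Data.zw) (Data.zw ++ s)) = true)
    {U : List ℕ} (hU : sameAction (ws.flatMap fun s => s ++ s) U = true)
    (hP : okWord P = true) (ht : sameAction (cw P [0, 0]) (U ++ winv Data.zw) = true)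
    {x : E} (hx : σ x = V U) : x * x = T σ hs := by
  have hz := map_lf σ hs Data.zw
  have hc' : Commute x (lf σ hs Data.zw) := commute_z σ hs hc h2 ws hws hU hx hz
  have ht' : σ (x * (lf σ hs Data.zw)⁻¹) = σ (L σ hs P) := by
    rw [map_mul, map_inv, hx, hz, ← V_winv (by decide +kernel), ← V_append,
      map_L σ hs ht hP]
  have e := sq_eq σ hc h2 ht'
  rw [L_sq σ hs hc h2, hc'.inv_right.symm.mul_mul_mul_comm, ← mul_inv_rev] at e
  exact (mul_inv_eq_one.mp e).trans rfl

/-- A conjugate of such a product has the conjugate square. -/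
theorem sq_L (ws : List (List ℕ)) (P Q : List ℕ) (hQ : okWord Q = true)
    (hws : ws.all (fun s => sameAction (s ++ Data.zw) (Data.zw ++ s)) = true)
    {U : List ℕ} (hU : sameAction (ws.flatMap fun s => s ++ s) (winv Q ++ U ++ Q) = true)
    (hP : okWord P = true)
    (ht : sameAction (cw P [0, 0]) (winv Q ++ U ++ Q ++ winv Data.zw) = true)
    {x : E} (hx : σ x = V U) : x * x = L σ hs Q := by
  have h := sq_T σ hs hc h2 ws P hws hU hP ht (x := (lf σ hs Q)⁻¹ * x * lf σ hs Q)
    (by rw [map_mul, map_mul, map_inv, map_lf, hx, V_append, V_append, V_winv hQ])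
  rw [L, ← h]
  group

end Cfsg.Agent.ONMult41
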