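import Mathlib.Data.Nat.Notation

/-!
Generators and normalising elements of Sylow subgroups of the O'Nan group, as words.
-/

set_option autoImplicit false

namespace Cfsg.Agent.ONMult41.Syl

/-- A generator of a Sylow subgroup. -/
def x1 : List ℕ := [2,4,3,2,5,4,3,5]

/-- A generator of a Sylow subgroup. -/
def x2 : List ℕ := [1,3,4,1,3,0,5,4,3,0,5,4,5,1]

/-- A generator of a Sylow subgroup. -/
def x3 : List ℕ := [4,5,4,3,5,4,5,4,3,6,5,4,5,3,4,1,1,3]

/-- A generator of a Sylow subgroup. -/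
def x4 : List ℕ := [3,4,7,2,3,4,5,4,3,6,0,5,4,5,6,5,4,3,1,5,6,4,5,4,1,3,2]

/-- Fixes two generators and inverts the other two. -/
def hDiag : List ℕ := [0,3,4,3,5,4,3,0,4]

/-- A normalising element mixing the generators. -/
def hMix : List ℕ := [6,0,3,5,4,0,3,5,0,4,6,5,1,6,4,0,5,3,4,5,6,7,3]

/-- A generator of a Sylow subgroup. -/
def u7 : List ℕ := [2,5,7,6,5,4,5,4,3,6,5,7]

/-- A generator of a Sylow subgroup. -/
def v7 : List ℕ := [2,4,3,5,4,3,2,5,6,7,6,5,4,3]

/-- An involution inverting the two generators of order seven. -/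
def h7 : List ℕ := [3,6,7,6]

/-- A generator of a Sylow subgroup. -/
def x19 : List ℕ := [6,0,6,5,4,3,0]

/-- A generator of a Sylow subgroup. -/
def x31 : List ℕ := [2,3,6,0,3,5,4]

/-- A generator of a Sylow subgroup. -/
def x11 : List ℕ := [4,3,2,5,0,4,3,6,5,7]

/-- A generator of a Sylow subgroup. -/
def x5c : List ℕ := [0,5,4,1,6,5,0,6,0,4]

end Cfsg.Agent.ONMult41.Syl
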