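import Cfsg.Agent.ONMult41.Two
import Cfsg.Agent.ONMult41.SylData
import Cfsg.Agent.PresMult70.Sylow

/-!
# Odd primes: the Schur multiplier of the O'Nan group has order at most three

The commutator form on an elementary abelian Sylow subgroup of order 81 has one free value.
-/

set_option autoImplicit false
set_option maxRecDepth 100000

namespace Cfsg.Agent.ONMult41

open Cfsg.Agent.CosetEnum Cfsg.Agent.CosetEnum.ON Cfsg.Agent.PresMult70
open scoped commutatorElement

theorem V_conj_eq {U W W' : List ℕ} (hU : okWord U = true) (h : sameAction (cw U W) W' = true) :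
    V U * V W * (V U)⁻¹ = V W' := by
  rw [← V_cw hU]; exact word_eq h

theorem V_comm {U W : List ℕ} (h : sameAction (U ++ W) (W ++ U) = true) : Commute (V U) (V W) := by
  show V U * V W = V W * V U
  rw [← V_append, ← V_append]; exact word_eq h

theorem V_pow_one {U : List ℕ} (n : ℕ) (h : sameAction (repWord U n) [] = true) : V U ^ n = 1 := by
  rw [V_pow]; exact word_eq (W := []) h

theorem V_ne_one {U : List ℕ} (h : diffAction U [] = true) : V U ≠ 1 := word_ne (W := []) h

theorem V_commutator {U W : List ℕ} (hU : okWord U = true) (hW : okWord W = true) :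
    ⁅V U, V W⁆ = V (U ++ W ++ winv U ++ winv W) := by
  rw [commutatorElement_def, V_append, V_append, V_append, V_winv hU, V_winv hW]

section

variable {Γ G : Type} [Group Γ] [Group G] (σ : Γ →* G) (hc : σ.ker ≤ Subgroup.center Γ)

include hc

/-- If `h` fixes `a` and inverts `b` of order three, lifts of `a` and `b` commute. -/
theorem commute_of_diag {a b h : Γ} (hb3 : σ b ^ 3 = 1) (hab : Commute (σ a) (σ b))
    (ha : σ h * σ a * (σ h)⁻¹ = σ a) (hb : σ h * σ b * (σ h)⁻¹ = σ b ^ 2) : Commute a b := by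
  obtain ⟨t, ht, hat⟩ : ∃ t, σ t = 1 ∧ a * b * a⁻¹ = t * b :=
    ⟨a * b * a⁻¹ * b⁻¹, by simp [hab.eq], by group⟩
  have htc : ∀ w, Commute t w := J2Mult70.central_of σ hc ht
  obtain ⟨i, hi, hai⟩ := J2Mult70.exists_eq_mul σ hc (x := h * a * h⁻¹) (y := a)
    (by rw [map_mul, map_mul, map_inv, ha])
  obtain ⟨j, hj, hbj⟩ := J2Mult70.exists_eq_mul σ hc (x := h * b * h⁻¹) (y := b ^ 2)
    (by rw [map_mul, map_mul, map_inv, map_pow, hb])
  have hic := J2Mult70.central_of σ hc hi
  have hjc := J2Mult70.central_of σ hc hj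
  have htp : t ^ 3 = 1 := by
    have h' := conj_pow_scalar hat (htc b) 3
    have hz : σ (b ^ 3) = 1 := by rw [map_pow]; exact hb3
    rw [← (J2Mult70.central_of σ hc hz a).eq, mul_assoc, mul_inv_cancel, mul_one] at h'
    exact mul_eq_right.mp h'.symm
  have e1 : h * (a * b * a⁻¹) * h⁻¹ = t * (b ^ 2 * j) := by
    rw [hat, show h * (t * b) * h⁻¹ = (h * t * h⁻¹) * (h * b * h⁻¹) by group, hbj, ← (htc h).eq]
    group
  have e2 : h * (a * b * a⁻¹) * h⁻¹ = t ^ 2 * (b ^ 2 * j) := by
    rw [show h * (a * b * a⁻¹) * h⁻¹ = (h * a * h⁻¹) * (h * b * h⁻¹) * (h * a * h⁻¹)⁻¹ by group,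
      hai, hbj]
    calc a * i * (b ^ 2 * j) * (a * i)⁻¹ = a * (i * (b ^ 2 * j) * i⁻¹) * a⁻¹ := by group
      _ = a * b ^ 2 * a⁻¹ * (a * j * a⁻¹) := by rw [(hic _).eq]; group
      _ = t ^ 2 * b ^ 2 * j := by rw [conj_pow_scalar hat (htc b) 2, ← (hjc a).eq]; group
      _ = t ^ 2 * (b ^ 2 * j) := by group
  have ht1 := eq_one_of_pows (p := 3) (m := 2) (by norm_num) htp
    (mul_right_cancel (e2.symm.trans e1)) (by decide)
  rw [ht1, one_mul] at hat
  exact mul_inv_eq_iff_eq_mul.mp hat

end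

/-- The generated Sylow subgroup. -/
def syl3 : Subgroup Gp :=
  Subgroup.closure {V Syl.x1, V Syl.x2, V Syl.x3, V Syl.x4}

/-- The word of a vector. -/
def vecW (n : Fin 81) : List ℕ :=
  repWord Syl.x1 (n.val % 3) ++ repWord Syl.x2 (n.val / 3 % 3) ++
    (repWord Syl.x3 (n.val / 9 % 3) ++ repWord Syl.x4 (n.val / 27))

theorem vec_key :
    (((List.finRange 81).map fun n => (Rep.go (vecW n) 0, Rep.go (vecW n) (Rep.oAPt 0),
      Rep.go (vecW n) (Rep.oBPt 0))).Nodup) := by
  decide +kernel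

theorem syl3_index : ¬ 3 ∣ syl3.index := by
  haveI := ON.finite
  haveI : Fact (Nat.Prime 3) := ⟨by norm_num⟩
  have hmem : ∀ n, V (vecW n) ∈ syl3 := by
    intro n
    simp only [vecW, V_append, ← V_pow]
    exact mul_mem (mul_mem (pow_mem (Subgroup.subset_closure (by simp)) _)
      (pow_mem (Subgroup.subset_closure (by simp)) _))
      (mul_mem (pow_mem (Subgroup.subset_closure (by simp)) _)
        (pow_mem (Subgroup.subset_closure (by simp)) _))
  have hok : ∀ n, okWord (vecW n) = true := by decide +kernel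
  have hinj : Function.Injective fun n => (⟨V (vecW n), hmem n⟩ : syl3) := by
    intro m n h
    have hmn : V (vecW m) = V (vecW n) := congrArg Subtype.val h
    have h3 := (sameAction_iff (hok m) (hok n)).mpr hmn
    simp only [sameAction, forceNat_eq, Bool.and_eq_true] at h3
    refine List.inj_on_of_nodup_map vec_key (List.mem_finRange m) (List.mem_finRange n) ?_
    simp only [Nat.eq_of_beq_eq_true h3.1.1.2, Nat.eq_of_beq_eq_true h3.1.2,
      Nat.eq_of_beq_eq_true h3.2]
  have h81 : 81 ≤ Nat.card syl3 := by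
    have := Nat.card_le_card_of_injective _ hinj
    rwa [Nat.card_fin] at this
  have hcomm : ∀ a ∈ ({V Syl.x1, V Syl.x2, V Syl.x3, V Syl.x4} : Set Gp),
      ∀ b ∈ ({V Syl.x1, V Syl.x2, V Syl.x3, V Syl.x4} : Set Gp), a * b = b * a := by
    simp only [Set.mem_insert_iff, Set.mem_singleton_iff]
    rintro a (rfl | rfl | rfl | rfl) b (rfl | rfl | rfl | rfl) <;> exact V_comm (by decide +kernel)
  have hP : IsPGroup 3 syl3 := by
    have h3 : ∀ x ∈ syl3, x ^ 3 = 1 := by
      intro x hx
      letI := Subgroup.isMulCommutative_closure hcomm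
      induction hx using Subgroup.closure_induction with
      | mem z hz =>
        simp only [Set.mem_insert_iff, Set.mem_singleton_iff] at hz
        rcases hz with rfl | rfl | rfl | rfl <;> exact V_pow_one 3 (by decide +kernel)
      | one => exact one_pow _
      | mul a b ha hb iha ihb =>
        have hab : Commute a b :=
          congrArg Subtype.val (mul_comm' (⟨a, ha⟩ : Subgroup.closure
            ({V Syl.x1, V Syl.x2, V Syl.x3, V Syl.x4} : Set Gp)) ⟨b, hb⟩)
        rw [hab.mul_pow, iha, ihb, one_mul]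
      | inv a _ iha => rw [inv_pow, iha, inv_one]
    intro x
    exact ⟨1, Subtype.ext (by simpa using h3 x.1 x.2)⟩
  obtain ⟨k, hk⟩ := hP.exists_card_eq
  have hk4 : 4 ≤ k := by
    by_contra hlt
    have : 3 ^ k ≤ 3 ^ 3 := Nat.pow_le_pow_right (by norm_num) (by omega)
    omega
  intro hdvd
  have h5 : 3 ^ 5 ∣ Nat.card Gp := by
    rw [← Subgroup.card_mul_index syl3, hk]
    exact (pow_succ 3 4) ▸ Nat.mul_dvd_mul (pow_dvd_pow 3 hk4) hdvd
  rw [card_eq] at h5
  norm_num at h5

section

variable {Γ : Type} [Group Γ] (σ : Γ →* Gp) (hs : Function.Surjective σ)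
  (hc : σ.ker ≤ Subgroup.center Γ)

include hs hc

/-- If lifts of the first two generators commute, all lifts of the Sylow subgroup commute. -/
theorem syl3_commute (h12 : ∀ x y : Γ, σ x = V Syl.x1 → σ y = V Syl.x2 → Commute x y) :
    ∀ x ∈ syl3.comap σ, ∀ y ∈ syl3.comap σ, ⁅x, y⁆ = 1 := by
  obtain ⟨y1, e1⟩ := hs (V Syl.x1)
  obtain ⟨y2, e2⟩ := hs (V Syl.x2)
  obtain ⟨y3, e3⟩ := hs (V Syl.x3)
  obtain ⟨y4, e4⟩ := hs (V Syl.x4)
  obtain ⟨h, eh⟩ := hs (V Syl.hDiag)
  obtain ⟨m, em⟩ := hs (V Syl.hMix)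
  have c12 : Commute y1 y2 := h12 y1 y2 e1 e2
  have diag : ∀ {a b : Γ} {U W : List ℕ}, σ a = V U → σ b = V W →
      sameAction (repWord W 3) [] = true → sameAction (U ++ W) (W ++ U) = true →
      sameAction (cw Syl.hDiag U) U = true →
      sameAction (cw Syl.hDiag W) (repWord W 2) = true → Commute a b := by
    intro a b U W ha hb h3 hab hU hW
    refine commute_of_diag σ hc (h := h) ?_ ?_ ?_ ?_
    · rw [hb]; exact V_pow_one 3 h3
    · rw [ha, hb]; exact V_comm hab
    · rw [eh, ha]; exact V_conj_eq (by decide +kernel) hU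
    · rw [eh, hb, V_pow]; exact V_conj_eq (by decide +kernel) hW
  have c13 : Commute y1 y3 := diag e1 e3 (by decide +kernel) (by decide +kernel) (by decide +kernel)
    (by decide +kernel)
  have c14 : Commute y1 y4 := diag e1 e4 (by decide +kernel) (by decide +kernel) (by decide +kernel)
    (by decide +kernel)
  have c23 : Commute y2 y3 := diag e2 e3 (by decide +kernel) (by decide +kernel) (by decide +kernel)
    (by decide +kernel)
  have c24 : Commute y2 y4 := diag e2 e4 (by decide +kernel) (by decide +kernel) (by decide +kernel)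
    (by decide +kernel)
  have c34 : Commute y3 y4 := by
    have hq : Commute (y1 ^ 2 * y2 * (y3 ^ 2 * y4 ^ 2)) (y2 * (y3 * y4 ^ 2)) := by
      refine commute_conj σ hc (w := m) c12 ?_ ?_
      all_goals
        simp only [map_mul, map_pow, map_inv, e1, e2, e3, e4, em, V_pow, ← V_append,
          ← V_winv (W := Syl.hMix) (by decide +kernel)]
        exact word_eq (by decide +kernel)
    have f2 : Commute (y1 ^ 2 * y2 * (y3 ^ 2 * y4 ^ 2)) y2 :=
      ((c12.pow_left 2).mul_left (Commute.refl _)).mul_left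
        ((c23.symm.pow_left 2).mul_left (c24.symm.pow_left 2))
    have f3 := f2.inv_right.mul_right hq
    rw [inv_mul_cancel_left] at f3
    have g1 : Commute (y1 ^ 2 * y2) (y3 * y4 ^ 2) :=
      ((c13.pow_left 2).mul_right ((c14.pow_left 2).pow_right 2)).mul_left
        (c23.mul_right (c24.pow_right 2))
    have f4 := g1.inv_left.mul_left f3
    rw [inv_mul_cancel_left] at f4
    have f5 : Commute y3 (y3 * y4 ^ 2) := by
      have := f4.mul_left (Commute.refl (y3 * y4 ^ 2)).inv_left
      rwa [show y3 ^ 2 * y4 ^ 2 * (y3 * y4 ^ 2)⁻¹ = y3 by group] at this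
    have f6 : Commute y3 (y4 ^ 2) := by
      simpa using ((Commute.refl y3).inv_right).mul_right f5
    have hz : σ (y4 ^ 3) = 1 := by
      rw [map_pow, e4]; exact V_pow_one 3 (by decide +kernel)
    have := ((J2Mult70.central_of σ hc hz y3).symm).mul_right f6.inv_right
    rwa [show y4 ^ 3 * (y4 ^ 2)⁻¹ = y4 by group] at this
  have hcomm : ∀ a ∈ ({y1, y2, y3, y4} : Set Γ), ∀ b ∈ ({y1, y2, y3, y4} : Set Γ),
      a * b = b * a := by
    simp only [Set.mem_insert_iff, Set.mem_singleton_iff]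
    rintro a (rfl | rfl | rfl | rfl) b (rfl | rfl | rfl | rfl)
    exacts [rfl, c12.eq, c13.eq, c14.eq, c12.symm.eq, rfl, c23.eq, c24.eq, c13.symm.eq,
      c23.symm.eq, rfl, c34.eq, c14.symm.eq, c24.symm.eq, c34.symm.eq, rfl]
  have himg : syl3 = (Subgroup.closure ({y1, y2, y3, y4} : Set Γ)).map σ := by
    rw [MonoidHom.map_closure, Set.image_insert_eq, Set.image_insert_eq, Set.image_pair, e1, e2,
      e3, e4]
    rfl
  intro x hx y hy
  rw [himg, Subgroup.mem_comap, Subgroup.mem_map] at hx hy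
  obtain ⟨a, ha, ha'⟩ := hx
  obtain ⟨b, hb, hb'⟩ := hy
  rw [commutatorElement_eq_one_iff_mul_comm]
  letI := Subgroup.isMulCommutative_closure hcomm
  exact (commute_of_eq σ hc ha'.symm hb'.symm
    (congrArg Subtype.val (mul_comm' (⟨a, ha⟩ : Subgroup.closure ({y1, y2, y3, y4} : Set Γ))
      ⟨b, hb⟩))).eq

/-- The local criterion at every odd prime, given that lifts of two generators commute. -/
theorem odd_primes (h12 : ∀ x y : Γ, σ x = V Syl.x1 → σ y = V Syl.x2 → Commute x y)
    (ℓ : ℕ) (hℓ : ℓ.Prime) (h2 : ℓ ≠ 2) :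
    ∃ S : Subgroup Gp, ¬ ℓ ∣ S.index ∧ σ.ker ⊓ ⁅S.comap σ, S.comap σ⁆ = ⊥ := by
  haveI := ON.finite
  by_cases hd : ℓ ∣ 460815505920
  swap
  · exact ⟨⊥, by rw [Subgroup.index_bot, card_eq]; exact hd,
      Cfsg.Agent.KnownSimple.inf_commutator_eq_bot_of_comm σ ⊥ fun x hx y hy =>
        Cfsg.Agent.KnownSimple.comm_of_cyclic σ hc ⊥ hs hx hy⟩
  have hℓ' : ℓ = 3 ∨ ℓ = 5 ∨ ℓ = 7 ∨ ℓ = 11 ∨ ℓ = 19 ∨ ℓ = 31 := by
    rw [show 460815505920 = 2 ^ 9 * 3 ^ 4 * 5 * 7 ^ 3 * 11 * 19 * 31 by norm_num] at hd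
    have key : ∀ {q n : ℕ}, q.Prime → ℓ ∣ q ^ n → ℓ = q := fun hq h =>
      (Nat.prime_dvd_prime_iff_eq hℓ hq).mp (hℓ.dvd_of_dvd_pow h)
    have key1 : ∀ {q : ℕ}, q.Prime → ℓ ∣ q → ℓ = q := fun hq h =>
      (Nat.prime_dvd_prime_iff_eq hℓ hq).mp h
    simp only [hℓ.dvd_mul] at hd
    rcases hd with ((((((h | h) | h) | h) | h) | h) | h)
    · exact absurd (key Nat.prime_two h) h2
    · exact Or.inl (key Nat.prime_three h)
    · exact Or.inr (Or.inl (key1 (by norm_num) h))
    · exact Or.inr (Or.inr (Or.inl (key (by norm_num) h)))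
    · exact Or.inr (Or.inr (Or.inr (Or.inl (key1 (by norm_num) h))))
    · exact Or.inr (Or.inr (Or.inr (Or.inr (Or.inl (key1 (by norm_num) h)))))
    · exact Or.inr (Or.inr (Or.inr (Or.inr (Or.inr (key1 (by norm_num) h)))))
  have cyc : ∀ (p : ℕ) (U : List ℕ), p.Prime → sameAction (repWord U p) [] = true →
      diffAction U [] = true → ¬ p ∣ 460815505920 / p →
      p ∣ 460815505920 →
      ∃ S : Subgroup Gp, ¬ p ∣ S.index ∧ σ.ker ⊓ ⁅S.comap σ, S.comap σ⁆ = ⊥ := by
    intro p U hp h1 h1' hnd hdp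
    haveI := Fact.mk hp
    have ho : orderOf (V U) = p := orderOf_eq_prime (V_pow_one p h1) (V_ne_one h1')
    refine ⟨Subgroup.zpowers (V U), ?_,
      Cfsg.Agent.KnownSimple.inf_commutator_eq_bot_of_comm σ _ fun x hx y hy =>
        Cfsg.Agent.KnownSimple.comm_of_cyclic σ hc (Subgroup.zpowers (V U)) hs hx hy⟩
    have h := Subgroup.card_mul_index (Subgroup.zpowers (V U))
    rw [Nat.card_zpowers, ho, card_eq] at h
    rwa [← Nat.eq_div_of_mul_eq_right hp.ne_zero h] at hnd
  rcases hℓ' with rfl | rfl | rfl | rfl | rfl | rfl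
  · exact ⟨syl3, syl3_index, Cfsg.Agent.KnownSimple.inf_commutator_eq_bot_of_comm σ _
      (syl3_commute σ hs hc h12)⟩
  · exact cyc 5 Syl.x5c (by norm_num) (by decide +kernel) (by decide +kernel) (by norm_num)
      (by norm_num)
  · exact criterion_extraspecial σ hs hc (a := 6) (b := 6) (by norm_num) (u := V Syl.u7)
      (v := V Syl.v7) (h := V Syl.h7) (V_pow_one 7 (by decide +kernel))
      (V_pow_one 7 (by decide +kernel))
      (by rw [V_commutator (by decide +kernel) (by decide +kernel)]; exact V_ne_one (by decide +kernel))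
      (by rw [V_commutator (by decide +kernel) (by decide +kernel)]; exact V_comm (by decide +kernel))
      (by rw [V_commutator (by decide +kernel) (by decide +kernel)]; exact V_comm (by decide +kernel))
      (by rw [V_pow]; exact V_conj_eq (by decide +kernel) (by decide +kernel))
      (by rw [V_pow]; exact V_conj_eq (by decide +kernel) (by decide +kernel))
      (by rw [V_commutator (by decide +kernel) (by decide +kernel)]; exact V_comm (by decide +kernel))
      (by decide) (by decide) (by rw [card_eq]; norm_num)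
  · exact cyc 11 Syl.x11 (by norm_num) (by decide +kernel) (by decide +kernel) (by norm_num)
      (by norm_num)
  · exact cyc 19 Syl.x19 (by norm_num) (by decide +kernel) (by decide +kernel) (by norm_num)
      (by norm_num)
  · exact cyc 31 Syl.x31 (by norm_num) (by decide +kernel) (by decide +kernel) (by norm_num)
      (by norm_num)

end

/-- The kernel of every finite stem extension is a quotient of the group of order three. -/
theorem bound (Γ : Type) [Group Γ] [Finite Γ] (σ : Γ →* Gp) (hσ : Cfsg.IsStemExtension σ) :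
    ∃ π : Multiplicative (ZMod 3) →* σ.ker, Function.Surjective π := by
  haveI := ON.finite
  obtain ⟨hs, hc, hd⟩ := hσ
  obtain ⟨x, hx⟩ := hs (V Syl.x1)
  obtain ⟨y, hy⟩ := hs (V Syl.x2)
  have hσc : σ ⁅x, y⁆ = 1 := by
    rw [map_commutatorElement, hx, hy, commutatorElement_eq_one_iff_mul_comm]
    exact V_comm (by decide +kernel)
  set c := ⁅x, y⁆ with hcd
  have hcc : ∀ w, Commute c w := J2Mult70.central_of σ hc hσc
  have hc3 : c ^ 3 = 1 := by
    have h := conj_pow_scalar (x := x) (y := y) (t := c)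
      (by rw [hcd, commutatorElement_def]; group) (hcc y) 3
    have hz : σ (y ^ 3) = 1 := by rw [map_pow, hy]; exact V_pow_one 3 (by decide +kernel)
    rw [← (J2Mult70.central_of σ hc hz x).eq, mul_assoc, mul_inv_cancel, mul_one] at h
    exact mul_eq_right.mp h.symm
  let N : Subgroup Γ := Subgroup.zpowers c
  have hNk : N ≤ σ.ker := Subgroup.zpowers_le.mpr hσc
  haveI hNn : N.Normal := ⟨fun n hn g => by
    rw [Subgroup.mem_center_iff.mp (hc (hNk hn)) g, mul_assoc, mul_inv_cancel, mul_one]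
    exact hn⟩
  let τ : Γ ⧸ N →* Gp := QuotientGroup.lift N σ hNk
  have hmk : ∀ z : Γ, τ (QuotientGroup.mk' N z) = σ z := fun _ => rfl
  have hst : Cfsg.IsStemExtension τ := by
    refine ⟨fun g => ?_, fun q hq => ?_, fun q hq => ?_⟩
    · obtain ⟨z, hz⟩ := hs g; exact ⟨QuotientGroup.mk' N z, hz⟩
    · obtain ⟨z, rfl⟩ := QuotientGroup.mk'_surjective N q
      rw [MonoidHom.mem_ker, hmk] at hq
      rw [Subgroup.mem_center_iff]
      intro r
      obtain ⟨w, rfl⟩ := QuotientGroup.mk'_surjective N r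
      rw [← map_mul, ← map_mul, Subgroup.mem_center_iff.mp (hc hq) w]
    · obtain ⟨z, rfl⟩ := QuotientGroup.mk'_surjective N q
      rw [MonoidHom.mem_ker, hmk] at hq
      have := Subgroup.mem_map_of_mem (QuotientGroup.mk' N) (hd hq)
      rw [commutator_def, Subgroup.map_commutator] at this
      exact Subgroup.commutator_mono le_top le_top this
  have h12 : ∀ p q : Γ ⧸ N, τ p = V Syl.x1 → τ q = V Syl.x2 → Commute p q := by
    intro p q hp hq
    refine commute_of_eq τ hst.2.1 (x := QuotientGroup.mk' N x) (y := QuotientGroup.mk' N y)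
      (by rw [hp, hmk, hx]) (by rw [hq, hmk, hy]) ?_
    rw [← commutatorElement_eq_one_iff_commute, ← map_commutatorElement,
      QuotientGroup.mk'_apply, QuotientGroup.eq_one_iff]
    exact Subgroup.mem_zpowers c
  have hbot : τ.ker = ⊥ := PresMult70.ker_eq_bot τ hst
    (fun ℓ hℓ h2 => odd_primes τ hst.1 hst.2.1 h12 ℓ hℓ h2)
    (fun E _ _ ρ hρ h => ker_eq_bot_of_sq ρ hρ h)
  have hkN : ∀ k ∈ σ.ker, k ∈ N := fun k hk => by
    have : QuotientGroup.mk' N k ∈ τ.ker := hk
    rwa [hbot, Subgroup.mem_bot, QuotientGroup.mk'_apply, QuotientGroup.eq_one_iff] at this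
  let c' : σ.ker := ⟨c, hσc⟩
  let f : ZMod 3 →+ Additive σ.ker := ZMod.lift 3
    ⟨zmultiplesHom _ (Additive.ofMul c'), by
      show ((3 : ℕ) : ℤ) • Additive.ofMul c' = 0
      rw [natCast_zsmul, ← ofMul_pow, show c' ^ 3 = 1 from Subtype.ext hc3]
      rfl⟩
  refine ⟨AddMonoidHom.toMultiplicativeLeft f, fun k => ?_⟩
  obtain ⟨n, hn⟩ := Subgroup.mem_zpowers_iff.mp (hkN k.1 k.2)
  refine ⟨Multiplicative.ofAdd (n : ZMod 3), ?_⟩
  apply Additive.ofMul.injective
  show f (n : ZMod 3) = Additive.ofMul k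
  rw [ZMod.lift_coe]
  show n • Additive.ofMul c' = _
  rw [← ofMul_zpow]
  exact congrArg _ (Subtype.ext hn)

end Cfsg.Agent.ONMult41
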