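import Cfsg.Agent.ONMult41.Lifts

/-!
# The O'Nan group has no stem extension with kernel of exponent two
-/

set_option autoImplicit false
set_option maxRecDepth 100000

namespace Cfsg.Agent.ONMult41

open Cfsg.Agent.CosetEnum Cfsg.Agent.CosetEnum.ON Cfsg.Agent.PresMult70

set_option maxHeartbeats 1000000

section

variable {E : Type} [Group E] (σ : E →* Gp) (hs : Function.Surjective σ)
  (hc : σ.ker ≤ Subgroup.center E) (h2 : ∀ k, σ k = 1 → k * k = 1)

include hs hc h2

/-- The braid relation of lifts. -/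
theorem braid {x y : ℕ} {P Q : List ℕ} (hP : σ (L σ hs P) = V [x]) (hQ : σ (L σ hs Q) = V [y])
    (h : sameRoot ([x] ++ Q) ([y] ++ P) = true) :
    L σ hs P * L σ hs Q * (L σ hs P * L σ hs Q) * (L σ hs P * L σ hs Q) = 1 := by
  have e := conj_eq σ hs hc h2 hP hQ h
  rw [L_inv σ hs hc h2, L_inv σ hs hc h2] at e
  generalize hX : L σ hs P = X at *
  generalize hY : L σ hs Q = Y at *
  have sX : X * X = 1 := by rw [← hX]; exact L_sq σ hs hc h2 P
  have sY : Y * Y = 1 := by rw [← hY]; exact L_sq σ hs hc h2 Q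
  calc X * Y * (X * Y) * (X * Y) = X * Y * X * (Y * X * Y) := by group
    _ = X * Y * X * (X * Y * X) := by rw [e]
    _ = X * Y * (X * X) * (Y * X) := by group
    _ = X * (Y * Y) * X := by rw [sX, mul_one]; group
    _ = 1 := by rw [sY, mul_one, sX]

/-- Two commuting lifts. -/
theorem two {x : ℕ} {P Q : List ℕ} (hP : σ (L σ hs P) = V [x])
    (h : sameRoot ([x] ++ Q) Q = true) :
    L σ hs P * L σ hs Q * (L σ hs P * L σ hs Q) = 1 := by
  have e := conj_self σ hs hc h2 hP h
  rw [mul_inv_eq_iff_eq_mul] at e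
  have hc' : Commute (L σ hs P) (L σ hs Q) := e
  rw [hc'.symm.mul_mul_mul_comm, L_sq σ hs hc h2, L_sq σ hs hc h2, one_mul]

/-- A valuation lifting the generators and killing all relator words. -/
theorem exists_val : ∃ v : Cfsg.Spor.ON.Gen → E, (∀ x, σ (v x) = PresentedGroup.of x) ∧
    ∀ W ∈ relsAll, evalWord (lets v) W = 1 := by
  have hA : σ (L σ hs Data.pA) = V [2] := map_L σ hs (by decide +kernel) (by decide +kernel)
  have hB : σ (L σ hs Data.pB) = V [3] := map_L σ hs (by decide +kernel) (by decide +kernel)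
  have hC : σ (L σ hs Data.pC) = V [4] := map_L σ hs (by decide +kernel) (by decide +kernel)
  have hD : σ (L σ hs Data.pD) = V [5] := map_L σ hs (by decide +kernel) (by decide +kernel)
  have hE : σ (L σ hs Data.pE) = V [6] := map_L σ hs (by decide +kernel) (by decide +kernel)
  have hF : σ (L σ hs Data.pF) = V [7] := map_L σ hs (by decide +kernel) (by decide +kernel)
  obtain ⟨ω, hAF⟩ := triple σ hs hc h2
  have ab := braid σ hs hc h2 hA hB (by decide +kernel)
  have bc := braid σ hs hc h2 hB hC (by decide +kernel)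
  have de := braid σ hs hc h2 hD hE (by decide +kernel)
  have ef := braid σ hs hc h2 hE hF (by decide +kernel)
  have ac := two σ hs hc h2 (Q := Data.pC) hA (by decide +kernel)
  have ad := two σ hs hc h2 (Q := Data.pD) hA (by decide +kernel)
  have ae := two σ hs hc h2 (Q := Data.pE) hA (by decide +kernel)
  have af := two σ hs hc h2 (Q := Data.pF) hA (by decide +kernel)
  have bd := two σ hs hc h2 (Q := Data.pD) hB (by decide +kernel)
  have be := two σ hs hc h2 (Q := Data.pE) hB (by decide +kernel)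
  have bf := two σ hs hc h2 (Q := Data.pF) hB (by decide +kernel)
  have ce := two σ hs hc h2 (Q := Data.pE) hC (by decide +kernel)
  have cf := two σ hs hc h2 (Q := Data.pF) hC (by decide +kernel)
  have df := two σ hs hc h2 (Q := Data.pF) hD (by decide +kernel)
  have sA := L_sq σ hs hc h2 Data.pA
  have sB := L_sq σ hs hc h2 Data.pB
  have sC := L_sq σ hs hc h2 Data.pC
  have sD := L_sq σ hs hc h2 Data.pD
  have sE := L_sq σ hs hc h2 Data.pE
  have sF := L_sq σ hs hc h2 Data.pF
  generalize eA : L σ hs Data.pA = A at *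
  generalize eB : L σ hs Data.pB = B at *
  generalize eC : L σ hs Data.pC = C at *
  generalize eD : L σ hs Data.pD = D at *
  generalize eE : L σ hs Data.pE = Ee at *
  generalize eF : L σ hs Data.pF = F at *
  have hcd : C * D * (C * D) * (C * D * (C * D)) = T σ hs :=
    sq_T σ hs hc h2 Data.sqCd Data.twCd (U := [4, 5, 4, 5]) (by decide +kernel) (by decide +kernel)
      (by decide +kernel) (by decide +kernel)
      (by simp only [map_mul, hC, hD, ← V_append]; rfl)
  -- the lift of `g`
  obtain ⟨g₀, hg₀⟩ : ∃ g₀ : E, σ g₀ = V [0] := hs _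
  have hk : σ ((B * C * D * g₀) ^ 5) = 1 := by
    rw [map_pow, map_mul, map_mul, map_mul, hB, hC, hD, hg₀, ← V_append, ← V_append, ← V_append,
      V_pow]
    exact word_eq (W := []) (by decide +kernel)
  obtain ⟨G, hG⟩ : ∃ G, G = g₀ * (B * C * D * g₀) ^ 5 := ⟨_, rfl⟩
  have hσG : σ G = V [0] := by rw [hG, map_mul, hk, mul_one, hg₀]
  have h5 : (B * C * D * G) ^ 5 = 1 := by
    rw [hG, ← mul_assoc, show (5 : ℕ) = 2 * 2 + 1 from rfl, mul_pow_odd σ hc h2 hk]
    exact h2 _ hk
  have hGG : G * G = T σ hs :=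
    sq_T σ hs hc h2 Data.sqG Data.twG (U := [0]) (by decide +kernel) (by decide +kernel)
      (by decide +kernel) (by decide +kernel) hσG
  have hGi : σ G⁻¹ = V [1] := by
    rw [map_inv, hσG, ← V_winv (W := [0]) (by decide)]; rfl
  have hb : B * G * B * (C * G * C) * (B * G * B * (C * G * C)) = L σ hs Data.pB :=
    sq_L σ hs hc h2 Data.sqUb Data.twUb Data.pB (by decide +kernel)
      (U := [3, 0, 3, 4, 0, 4]) (by decide +kernel) (by decide +kernel)
      (by decide +kernel) (by decide +kernel)
      (by simp only [map_mul, hB, hC, hσG, ← V_append]; rfl)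
  have he : Ee * G * Ee * (D * G * D) * (Ee * G * Ee * (D * G * D)) = L σ hs Data.pE :=
    sq_L σ hs hc h2 Data.sqUe Data.twUe Data.pE (by decide +kernel)
      (U := [6, 0, 6, 5, 0, 5]) (by decide +kernel) (by decide +kernel)
      (by decide +kernel) (by decide +kernel)
      (by simp only [map_mul, hE, hD, hσG, ← V_append]; rfl)
  rw [eB] at hb
  rw [eE] at he
  have hcw : G⁻¹ * D * G⁻¹ * D * L σ hs Data.pC * (G⁻¹ * D * G⁻¹ * D)⁻¹ = L σ hs Data.pC :=
    conj_self σ hs hc h2 (W := [1, 5, 1, 5]) (by simp only [map_mul, hGi, hD, ← V_append]; rfl)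
      (by decide +kernel)
  have hdw : G⁻¹ * C * G⁻¹ * C * L σ hs Data.pD * (G⁻¹ * C * G⁻¹ * C)⁻¹ = L σ hs Data.pD :=
    conj_self σ hs hc h2 (W := [1, 4, 1, 4]) (by simp only [map_mul, hGi, hC, ← V_append]; rfl)
      (by decide +kernel)
  rw [eC] at hcw
  rw [eD] at hdw
  have iC : C⁻¹ = C := inv_eq_of_mul_eq_one_right sC
  have iD : D⁻¹ = D := inv_eq_of_mul_eq_one_right sD
  let v : Cfsg.Spor.ON.Gen → E := fun x => match x with
    | .g => G | .a => A | .b => B | .c => C | .d => D | .e => Ee | .f => F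
  refine ⟨v, fun x => ?_, ?_⟩
  · have hv : ∀ {l : ℕ} {y : Cfsg.Spor.ON.Gen}, val l = PresentedGroup.of y →
        V [l] = (PresentedGroup.of y : Gp) := fun h => by simp [V, evalWord, h]
    cases x
    exacts [hσG.trans (hv rfl), hA.trans (hv rfl), hB.trans (hv rfl), hC.trans (hv rfl),
      hD.trans (hv rfl), hE.trans (hv rfl), hF.trans (hv rfl)]
  · have hw : lets v 0 = G ∧ lets v 1 = G⁻¹ ∧ lets v 2 = A ∧ lets v 3 = B ∧ lets v 4 = C ∧
        lets v 5 = D ∧ lets v 6 = Ee ∧ lets v 7 = F := ⟨rfl, rfl, rfl, rfl, rfl, rfl, rfl, rfl⟩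
    simp only [relsAll, List.forall_mem_cons, List.forall_mem_nil, and_true, evalWord, hw, mul_one]
    refine ⟨mul_inv_cancel G, inv_mul_cancel G, sA, ?_, ?_, ?_, ?_, ?_, sB, ?_, ?_, ?_, ?_, sC,
      ?_, ?_, ?_, sD, ?_, ?_, sE, ?_, sF, ?_, ?_, ?_, ?_, ?_, ?_, ?_, fun W hW => absurd hW List.not_mem_nil⟩
    · simpa only [mul_assoc] using ab
    · simpa only [mul_assoc] using ac
    · simpa only [mul_assoc] using ad
    · simpa only [mul_assoc] using ae
    · simpa only [mul_assoc] using af
    · simpa only [mul_assoc] using bc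
    · simpa only [mul_assoc] using bd
    · simpa only [mul_assoc] using be
    · simpa only [mul_assoc] using bf
    · calc _ = C * D * (C * D) * (C * D * (C * D)) * (C * D * (C * D) * (C * D * (C * D))) := by group
        _ = 1 := by rw [hcd, ω]
    · simpa only [mul_assoc] using ce
    · simpa only [mul_assoc] using cf
    · simpa only [mul_assoc] using de
    · simpa only [mul_assoc] using df
    · simpa only [mul_assoc] using ef
    · calc _ = A * F * (G * G)⁻¹ := by group
        _ = 1 := by rw [hAF, hGG, mul_inv_cancel]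
    · calc _ = A * F * (C⁻¹ * (C * D * (C * D) * (C * D * (C * D))) * C) := by
            rw [mul_assoc A F]
            congr 2
            simp only [iC, ← mul_assoc, sC, one_mul]
        _ = 1 := by
            rw [hAF, hcd, iC]
            have hCT : C * T σ hs * C = T σ hs := by
              have h := fix_T σ hs hc h2 (K := [4]) hC (by decide) (by decide +kernel)
              rwa [iC] at h
            rw [hCT, ω]
    · calc _ = C * (G⁻¹ * D * G⁻¹ * D * C * (G⁻¹ * D * G⁻¹ * D)⁻¹) := by
            simp only [mul_inv_rev, inv_inv, iD, mul_assoc]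
        _ = 1 := by rw [hcw, sC]
    · calc _ = D * (G⁻¹ * C * G⁻¹ * C * D * (G⁻¹ * C * G⁻¹ * C)⁻¹) := by
            simp only [mul_inv_rev, inv_inv, iC, mul_assoc]
        _ = 1 := by rw [hdw, sD]
    · simpa only [pow_succ, pow_zero, one_mul, mul_assoc] using h5
    · calc _ = B * B * (G * B * (C * G * C) * (B * G * B) * (C * G * C)) := by
            rw [sB, one_mul]; group
        _ = B * (B * G * B * (C * G * C) * (B * G * B * (C * G * C))) := by group
        _ = 1 := by rw [hb, sB]
    · calc _ = Ee * Ee * (G * Ee * (D * G * D) * (Ee * G * Ee) * (D * G * D)) := by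
            rw [sE, one_mul]; group
        _ = Ee * (Ee * G * Ee * (D * G * D) * (Ee * G * Ee * (D * G * D))) := by group
        _ = 1 := by rw [he, sE]

end

/-- No stem extension with kernel of exponent two. -/
theorem ker_eq_bot_of_sq {E : Type} [Group E] (σ : E →* Gp) (hσ : Cfsg.IsStemExtension σ)
    (h2' : ∀ k ∈ σ.ker, k * k = 1) : σ.ker = ⊥ := by
  obtain ⟨v, hv, hrel⟩ := exists_val σ hσ.1 hσ.2.1 fun k h => h2' k h
  let φ : Gp →* E := PresentedGroup.toGroup (kills v hrel)
  have hsec : σ.comp φ = MonoidHom.id Gp := PresentedGroup.ext fun x => by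
    rw [MonoidHom.comp_apply, PresentedGroup.toGroup.of, MonoidHom.id_apply, hv x]
  exact ker_eq_bot_of_section σ hσ φ fun x => DFunLike.congr_fun hsec x

end Cfsg.Agent.ONMult41
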