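import Cfsg.Agent.SporB.ON.Base

/-!
# Word identities in the O'Nan group, checked on three points

The stabiliser of the three base points is trivial.
-/

set_option autoImplicit false
set_option maxRecDepth 100000

namespace Cfsg.Agent.ONMult41

open Cfsg.Agent.CosetEnum Cfsg.Agent.CosetEnum.ON

/-- The image of a word. -/
abbrev V (W : List ℕ) : Gp := evalWord val W

theorem base_trivial : ∃ p q : Pt, (p : ℕ) = Rep.oAPt 0 ∧ (q : ℕ) = Rep.oBPt 0 ∧
    ∀ x : Gp, hom x 0 = 0 → hom x p = p → hom x q = q → x = 1 := by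
  obtain ⟨p, hp, h1⟩ := list_bound (ls := selH) (by decide) Rep.listA (by norm_num)
  obtain ⟨q, hq, h2⟩ := list_bound (ls := [2, 3, 4, 5]) (by decide) Rep.listB (by norm_num)
  refine ⟨p, q, hp, hq, fun x h0 hxp hxq => ?_⟩
  haveI := ON.finite
  set A := (Glue.gsub val [2, 3, 4, 5]).map hom with hA
  have hle : A ≤ (Glue.gsub val selH).map hom ⊓ MulAction.stabilizer (Equiv.Perm Pt) p := by
    refine le_inf (Subgroup.map_mono (Glue.gsub_mono _ (by decide))) ?_
    rw [hA, Glue.gsub, MonoidHom.map_closure, Subgroup.closure_le]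
    rintro _ ⟨g, hg, rfl⟩
    obtain ⟨l, hl, rfl⟩ := List.mem_map.mp (show g ∈ [2, 3, 4, 5].map val from hg)
    have h8 : l < 8 := (by decide : ∀ l ∈ [2, 3, 4, 5], l < 8) l hl
    rw [SetLike.mem_coe, MulAction.mem_stabilizer_iff, hom_val h8, Equiv.Perm.smul_def,
      Equiv.Perm.inv_eq_iff_eq]
    apply Fin.ext
    rw [perm_apply h8, hp]
    exact (Nat.eq_of_beq_eq_true (List.all_eq_true.mp Rep.fixA l hl)).symm
  have hH : Nat.card ((Glue.gsub val selH).map hom) = 3753792 := by
    rw [Subgroup.card_map_of_injective card_H.2]; exact card_H.1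
  rw [hH] at h1
  have hpos : 0 < Nat.card (A ⊓ MulAction.stabilizer (Equiv.Perm Pt) q :
      Subgroup (Equiv.Perm Pt)) := Nat.card_pos
  have h3 := Nat.le_of_dvd Nat.card_pos (Subgroup.card_dvd_of_le hle)
  have h4 : 672 * Nat.card (A ⊓ MulAction.stabilizer (Equiv.Perm Pt) q :
      Subgroup (Equiv.Perm Pt)) ≤ Nat.card A := h2
  have heq : A = (Glue.gsub val selH).map hom ⊓ MulAction.stabilizer (Equiv.Perm Pt) p :=
    Subgroup.eq_of_le_of_card_ge hle (by omega)
  have hbot : A ⊓ MulAction.stabilizer (Equiv.Perm Pt) q = ⊥ := by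
    rw [← Subgroup.card_eq_one]
    omega
  have hxH : x ∈ H := by rw [H_stab.1, mem_stab]; exact h0
  have hmem : hom x ∈ A ⊓ MulAction.stabilizer (Equiv.Perm Pt) q := by
    refine ⟨?_, hxq⟩
    rw [heq]
    exact ⟨Subgroup.mem_map_of_mem _ hxH, hxp⟩
  rw [hbot, Subgroup.mem_bot] at hmem
  exact card_H.2 (hmem.trans (map_one hom).symm)

/-- All letters are valid. -/
def okWord (W : List ℕ) : Bool := W.all fun l => Nat.blt l 8

theorem okWord_iff {W : List ℕ} (h : okWord W = true) : ∀ l ∈ W, l < 8 := fun l hl =>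
  Nat.le_of_ble_eq_true (List.all_eq_true.mp h l hl)

/-- Both words agree on the three base points. -/
noncomputable def sameAction (U W : List ℕ) : Bool :=
  okWord U && okWord W && Nat.beq (Rep.go U 0) (Rep.go W 0) &&
    forceNat (Rep.oAPt 0) (fun p => Nat.beq (Rep.go U p) (Rep.go W p)) &&
    forceNat (Rep.oBPt 0) (fun q => Nat.beq (Rep.go U q) (Rep.go W q))

theorem sameAction_iff {U W : List ℕ} (hU : okWord U = true) (hW : okWord W = true) :
    sameAction U W = true ↔ V U = V W := by
  simp only [sameAction, hU, hW, Bool.true_and, forceNat_eq, Bool.and_eq_true]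
  constructor
  · rintro ⟨⟨h0, hp⟩, hq⟩
    obtain ⟨p, q, ep, eq, key⟩ := base_trivial
    have move : ∀ i : Pt, Nat.beq (Rep.go U i) (Rep.go W i) = true →
        (hom (V U))⁻¹ i = (hom (V W))⁻¹ i := fun i h => Fin.ext (by
      rw [hom_go (okWord_iff hU), hom_go (okWord_iff hW)]
      exact Nat.eq_of_beq_eq_true h)
    rw [← ep] at hp
    rw [← eq] at hq
    have e : ∀ i : Pt, (hom (V U))⁻¹ i = (hom (V W))⁻¹ i → hom (V W * (V U)⁻¹) i = i :=
      fun i h => by
        rw [map_mul, map_inv, Equiv.Perm.mul_apply, h]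
        exact Equiv.apply_symm_apply _ i
    have h := key _ (e 0 (move 0 h0)) (e p (move p hp)) (e q (move q hq))
    exact (mul_inv_eq_one.mp h).symm
  · intro e
    obtain ⟨p, q, ep, eq, -⟩ := base_trivial
    have move : ∀ i : Pt, Nat.beq (Rep.go U i) (Rep.go W i) = true := fun i => by
      rw [← hom_go (okWord_iff hU), ← hom_go (okWord_iff hW)]
      rw [show evalWord val U = evalWord val W from e]
      exact Nat.beq_refl _
    exact ⟨⟨move 0, ep ▸ move p⟩, eq ▸ move q⟩

theorem word_eq {U W : List ℕ} (h : sameAction U W = true) : V U = V W := by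
  have h' := h
  simp only [sameAction, Bool.and_eq_true] at h'
  exact (sameAction_iff h'.1.1.1.1 h'.1.1.1.2).mp h

/-- The words differ on a base point. -/
noncomputable def diffAction (U W : List ℕ) : Bool := okWord U && okWord W && !(sameAction U W)

theorem word_ne {U W : List ℕ} (h : diffAction U W = true) : V U ≠ V W := by
  intro e
  simp only [diffAction, Bool.and_eq_true, Bool.not_eq_true'] at h
  rw [(sameAction_iff h.1.1 h.1.2).mpr e] at h
  exact Bool.noConfusion h.2

theorem V_append (U W : List ℕ) : V (U ++ W) = V U * V W := evalWord_append _ _ _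

theorem V_pow (U : List ℕ) (n : ℕ) : V U ^ n = V (repWord U n) := (evalWord_repWord _ _ _).symm

/-- The inverse word. -/
def winv (W : List ℕ) : List ℕ := (W.map Rep.linv).reverse

theorem val_linv {l : ℕ} (hl : l < 8) : val (Rep.linv l) = (val l)⁻¹ := by
  apply eq_inv_of_mul_eq_one_right
  have h : [l, Rep.linv l] ∈ relsAll := by interval_cases l <;> decide
  simpa [evalWord] using rel_one _ h

theorem V_winv : ∀ {W : List ℕ}, okWord W = true → V (winv W) = (V W)⁻¹
  | [], _ => by simp [winv, V, evalWord]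
  | l :: W, h => by
    simp only [okWord, List.all_cons, Bool.and_eq_true] at h
    have e : winv (l :: W) = winv W ++ [Rep.linv l] := by simp [winv]
    rw [e, V_append, V_winv (W := W) h.2]
    simp [V, evalWord, val_linv (Nat.le_of_ble_eq_true h.1)]

/-- The word of a conjugate. -/
def cw (P W : List ℕ) : List ℕ := P ++ W ++ winv P

theorem V_cw {P : List ℕ} (hP : okWord P = true) (W : List ℕ) :
    V (cw P W) = V P * V W * (V P)⁻¹ := by
  rw [cw, V_append, V_append, V_winv hP]

end Cfsg.Agent.ONMult41
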